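import Cfsg.Agent.Lib.SingerInvol.Structure

/-!
# Coordinates and the squaring map

* `exists_section`: an equivariant additive section, by averaging.
* `Setup.exists_coords`: coordinates on `T / C` in which the square of the squaring map is a multiple of
  `k γ² + γ κ + κ²`.
-/

set_option autoImplicit false
set_option linter.unusedSectionVars false

open scoped commutatorElement

namespace Cfsg.Agent.SingerInvol

/-- An equivariant additive section of an equivariant surjection onto a field of characteristic two. -/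
theorem exists_section {V F : Type*} [AddCommGroup V] [Field F] [CharP F 2] (two : ∀ v : V, v + v = 0)
    (g : V →+ F) (hg : Function.Surjective g) (R : V →+ V) {ω : F} (hω : ω ≠ 0) (hR : ∀ v, g (R v) = ω * g v)
    {m : ℕ} (hm : Odd m) (hωm : ω ^ m = 1) (hRm : ∀ v, (⇑R)^[m] v = v) :
    ∃ s : F →+ V, (∀ x, g (s x) = x) ∧ ∀ x, s (ω * x) = R (s x) := by
  classical
  letI := ZMod.algebra F 2
  letI : Module (ZMod 2) V := AddCommGroup.zmodModule fun v => by rw [two_nsmul]; exact two v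
  let gl : V →ₗ[ZMod 2] F := AddMonoidHom.toZModLinearMap 2 g
  obtain ⟨s₀, hs₀⟩ := LinearMap.exists_rightInverse_of_surjective gl (LinearMap.range_eq_top.2 hg)
  have hs₀' : ∀ x, g (s₀ x) = x := fun x => LinearMap.congr_fun hs₀ x
  have hiter : ∀ j v, g ((⇑R)^[j] v) = ω ^ j * g v := by
    intro j
    induction j with
    | zero => intro v; simp
    | succ j ih => intro v; rw [Function.iterate_succ_apply', hR, ih, pow_succ']; ring
  have hiadd : ∀ (j : ℕ) (a b : V), (⇑R)^[j] (a + b) = (⇑R)^[j] a + (⇑R)^[j] b := by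
    intro j
    induction j with
    | zero => intro a b; rfl
    | succ j ih => intro a b; simp only [Function.iterate_succ_apply', ih, map_add]
  refine ⟨AddMonoidHom.mk' (fun x => ∑ j ∈ Finset.range m, (⇑R)^[j] (s₀ (ω⁻¹ ^ j * x))) fun x y => ?_,
    fun x => ?_, fun x => ?_⟩
  · simp only [mul_add, map_add, hiadd, Finset.sum_add_distrib]
  · show g (∑ j ∈ Finset.range m, (⇑R)^[j] (s₀ (ω⁻¹ ^ j * x))) = x
    rw [map_sum, Finset.sum_congr rfl fun j _ => show g ((⇑R)^[j] (s₀ (ω⁻¹ ^ j * x))) = x by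
      rw [hiter, hs₀', ← mul_assoc, ← mul_pow, mul_inv_cancel₀ hω, one_pow, one_mul]]
    rw [Finset.sum_const, Finset.card_range]
    obtain ⟨i, rfl⟩ := hm
    rw [add_smul, one_smul, mul_comm, mul_smul, two_nsmul, CharTwo.add_self_eq_zero, smul_zero, zero_add]
  · show (∑ j ∈ Finset.range m, (⇑R)^[j] (s₀ (ω⁻¹ ^ j * (ω * x)))) =
      R (∑ j ∈ Finset.range m, (⇑R)^[j] (s₀ (ω⁻¹ ^ j * x)))
    let f : ℕ → V := fun j => (⇑R)^[j] (s₀ (ω⁻¹ ^ j * (ω * x)))
    have hf : ∀ j, f (j + 1) = R ((⇑R)^[j] (s₀ (ω⁻¹ ^ j * x))) := fun j => by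
      show (⇑R)^[j + 1] _ = _
      rw [Function.iterate_succ_apply', pow_succ, mul_assoc, ← mul_assoc ω⁻¹, inv_mul_cancel₀ hω, one_mul]
    have hfm : f m = f 0 := by
      show (⇑R)^[m] _ = _
      rw [hRm, inv_pow, hωm, inv_one, one_mul]
      simp [f]
    rw [map_sum, Finset.sum_congr rfl fun j _ => (hf j).symm]
    have h1 := Finset.sum_range_succ f m
    have h2 := Finset.sum_range_succ' f m
    rw [h1, hfm] at h2
    exact add_right_cancel h2

namespace Setup

variable {T : Type*} [Group T] [Finite T] {n : ℕ} {α ρ : MulAut T} {C : Subgroup T} (S : Setup n α ρ C)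
variable {F : Type*} [Field F] [Fintype F] [CharP F 2] {ι : T → F} {ω : F}
include S

theorem exists_coords (hI : Coord ρ C ι ω) (hna : ¬ ∀ a b : T, a * b = b * a) (hcen : Subgroup.center T = C)
    (hsq : ∀ x : T, x * x ∈ C) :
    ∃ (p : T → F × F) (k e : F), e ≠ 0 ∧ (∀ a b, p (a * b) = p a + p b) ∧ Function.Surjective p ∧
      (∀ x, p x = 0 ↔ x ∈ C) ∧
      ∀ x, ι (x * x) * ι (x * x) =
        e * e * (k * ((p x).1 * (p x).1) + (p x).1 * (p x).2 + (p x).2 * (p x).2) := by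
  classical
  obtain ⟨αq, ρq, U, κ, SQ, hαq, hρq, hinv, hκ, hκρ, hκs, hκ0⟩ := S.exists_quotient hI hna
  have hPcomm := S.preimage_comm hI SQ hαq hρq hκ hκρ hκs hκ0
  set Z := Subgroup.center T with hZ
  let π := QuotientGroup.mk' Z
  set P := U.comap π with hP
  have hπα : ∀ x : T, αq (π x) = π (α x) := hαq
  have hπρ : ∀ x : T, ρq (π x) = π (ρ x) := hρq
  have two : ∀ x : F, x + x = 0 := CharTwo.add_self_eq_zero
  have hsqZ : ∀ x : T, x * x ∈ Z := fun x => hcen ▸ hsq x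
  have hexp : ∀ q : T ⧸ Z, q * q = 1 := by
    intro q
    obtain ⟨x, rfl⟩ := QuotientGroup.mk'_surjective Z q
    rw [← map_mul]
    exact (QuotientGroup.eq_one_iff _).2 (hsqZ x)
  have hab : ∀ u v : T ⧸ Z, u * v = v * u := fun u v => by
    calc u * v = (u * v)⁻¹ := (inv_eq_of_mul_eq_one_right (hexp _)).symm
      _ = v * u := by
        rw [mul_inv_rev, inv_eq_of_mul_eq_one_right (hexp u), inv_eq_of_mul_eq_one_right (hexp v)]
  have hcommC : ∀ a b : T, ⁅a, b⁆ ∈ C := fun a b => by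
    rw [← hcen]
    refine (QuotientGroup.eq_one_iff _).1 ?_
    show π ⁅a, b⁆ = 1
    rw [map_commutatorElement, commutatorElement_eq_one_iff_mul_comm]
    exact hab _ _
  have hκcong : ∀ a ∈ P, ∀ b ∈ P, π a = π b → κ a = κ b := by
    intro a ha b hb e
    have hz : a⁻¹ * b ∈ Z := QuotientGroup.eq.1 e
    have := hκ a ha (a⁻¹ * b) (mul_mem (inv_mem ha) hb)
    rw [mul_inv_cancel_left, (hκ0 _ (mul_mem (inv_mem ha) hb)).2 hz, add_zero] at this
    exact this.symm
  have hdP : ∀ x : T, x⁻¹ * α x ∈ P := fun x => by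
    show π (x⁻¹ * α x) ∈ U
    refine SQ.invol_of_inverted ?_ (hexp _)
    rw [hπα, ← map_inv]
    congr 1
    rw [map_mul, map_inv, S.sq_α, mul_inv_rev, inv_inv]
  let γ : T → F := fun x => κ (x⁻¹ * α x)
  have hγ : ∀ a b : T, γ (a * b) = γ a + γ b := fun a b => by
    show κ _ = κ _ + κ _
    rw [← hκ _ (hdP a) _ (hdP b)]
    refine hκcong _ (hdP _) _ (mul_mem (hdP a) (hdP b)) ?_
    simp only [map_mul, map_inv, mul_inv_rev]
    rw [hab (π b)⁻¹ (π a)⁻¹, mul_assoc, ← mul_assoc (π b)⁻¹, hab (π b)⁻¹, mul_assoc, ← mul_assoc]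
  have hγρ : ∀ a : T, γ (ρ a) = ω * γ a := fun a => by
    show κ _ = ω * κ _
    rw [← hκρ _ (hdP a), ← S.ρ_delta]
  have hγ0 : ∀ a : T, γ a = 0 ↔ a ∈ P := fun a => by
    show κ _ = 0 ↔ π a ∈ U
    rw [hκ0 _ (hdP a), ← SQ.fix_α, hπα]
    exact ⟨fun h => (QuotientGroup.eq.2 h).symm, fun h => QuotientGroup.eq.1 h.symm⟩
  have hPr : ∀ a ∈ P, ρ a ∈ P := fun a ha => by
    show π (ρ a) ∈ U
    rw [← hπρ]; exact SQ.r_mem_C ha
  obtain ⟨a₀, ha₀⟩ : ∃ a₀, a₀ ∉ P := by
    by_contra h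
    push Not at h
    exact hna fun a b => hPcomm a (h a) b (h b)
  have hω0 : ω ≠ 0 := by
    intro e
    have h : γ (ρ a₀) = 0 := by rw [hγρ, e, zero_mul]
    have hm : (ρ ^ (2 ^ n - 1 - 1)) (ρ a₀) = a₀ := by
      rw [← MulAut.mul_apply, ← pow_succ, show 2 ^ n - 1 - 1 + 1 = 2 ^ n - 1 by have := S.four_le; omega,
        S.order]
      rfl
    exact ha₀ (hm ▸ pow_mem_inv ρ hPr _ _ ((hγ0 _).1 h))
  have hγs : ∀ v : F, ∃ a, γ a = v := by
    intro v
    by_cases hv : v = 0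
    · exact ⟨1, by rw [hv, hγ0]; exact one_mem P⟩
    obtain ⟨i, hi⟩ := hI.gen (v / γ a₀) (div_ne_zero hv fun e => ha₀ ((hγ0 _).1 e))
    refine ⟨(ρ ^ i) a₀, ?_⟩
    have hpow : ∀ i : ℕ, γ ((ρ ^ i) a₀) = ω ^ i * γ a₀ := by
      intro i
      induction i with
      | zero => simp
      | succ i ih => rw [pow_succ', MulAut.mul_apply, hγρ, ih]; ring
    rw [hpow, hi, div_mul_cancel₀ _ fun e => ha₀ ((hγ0 _).1 e)]
  -- the section
  letI : CommGroup (T ⧸ Z) := { (inferInstance : Group (T ⧸ Z)) with mul_comm := hab }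
  have hγZ : ∀ a b : T, π a = π b → γ a = γ b := fun a b e => by
    have hz : a⁻¹ * b ∈ P := by
      show π (a⁻¹ * b) ∈ U
      rw [map_mul, map_inv, e, inv_mul_cancel]; exact one_mem U
    have h := hγ a (a⁻¹ * b)
    rw [mul_inv_cancel_left, (hγ0 _).2 hz, add_zero] at h
    exact h.symm
  have hout : ∀ q : T ⧸ Z, π q.out = q := fun q => QuotientGroup.out_eq' q
  let g : Additive (T ⧸ Z) →+ F := AddMonoidHom.mk' (fun v => γ (Additive.toMul v).out) fun u v => by
    show γ _ = γ _ + γ _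
    rw [← hγ]
    exact hγZ _ _ (by rw [map_mul, hout, hout, hout, toMul_add])
  let R : Additive (T ⧸ Z) →+ Additive (T ⧸ Z) := MonoidHom.toAdditive (ρq : T ⧸ Z →* T ⧸ Z)
  have hRpow : ∀ (j : ℕ) (v : Additive (T ⧸ Z)), Additive.toMul ((⇑R)^[j] v) = (ρq ^ j) (Additive.toMul v) := by
    intro j
    induction j with
    | zero => intro v; rfl
    | succ j ih =>
      intro v
      rw [Function.iterate_succ_apply', pow_succ', MulAut.mul_apply, ← ih]
      rfl
  have hm : Odd (2 ^ n - 1) := by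
    have h : Even (2 ^ n) := Nat.even_pow.2 ⟨even_two, by have := S.two_le; omega⟩
    exact Nat.Even.sub_odd (by have := S.four_le; omega) h odd_one
  have hωm : ω ^ (2 ^ n - 1) = 1 := by
    have hpow : ∀ i : ℕ, γ ((ρ ^ i) a₀) = ω ^ i * γ a₀ := by
      intro i
      induction i with
      | zero => simp
      | succ i ih => rw [pow_succ', MulAut.mul_apply, hγρ, ih]; ring
    have h := hpow (2 ^ n - 1)
    rw [S.order] at h
    exact (mul_eq_right₀ fun e => ha₀ ((hγ0 _).1 e)).1 h.symm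
  obtain ⟨s, hs, hsR⟩ := exists_section (V := Additive (T ⧸ Z))
    (fun v => Additive.toMul.injective (hexp _)) g
    (fun v => by
      obtain ⟨a, ha⟩ := hγs v
      exact ⟨Additive.ofMul (π a), by
        show γ _ = v
        rw [← ha]; exact hγZ _ _ (hout _)⟩)
    R hω0 (fun v => by
      show γ _ = ω * γ _
      rw [← hγρ]
      exact hγZ _ _ (by rw [hout, ← hπρ, hout]; rfl))
    hm hωm (fun v => Additive.toMul.injective (by rw [hRpow, SQ.order]; rfl))
  let sec : F → T := fun v => (Additive.toMul (s v)).out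
  have hsecγ : ∀ v, γ (sec v) = v := hs
  let w : T → T := fun x => (sec (γ x))⁻¹ * x
  have hwP : ∀ x, w x ∈ P := fun x => by
    rw [← hγ0]
    have h := hγ (sec (γ x)) (w x)
    rw [show sec (γ x) * w x = x from mul_inv_cancel_left _ _, hsecγ] at h
    linear_combination -h
  let ν : T → F := fun x => κ (w x)
  have hsecmul : ∀ u v, π (sec (u + v)) = π (sec u) * π (sec v) := fun u v => by
    show π (Additive.toMul (s (u + v))).out = π (Additive.toMul (s u)).out * π (Additive.toMul (s v)).out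
    rw [hout, hout, hout, map_add, toMul_add]
  have hπw : ∀ x, π (w x) = (π (sec (γ x)))⁻¹ * π x := fun x => by rw [map_mul, map_inv]
  have hν : ∀ a b, ν (a * b) = ν a + ν b := fun a b => by
    show κ _ = κ _ + κ _
    rw [← hκ _ (hwP a) _ (hwP b)]
    refine hκcong _ (hwP _) _ (mul_mem (hwP a) (hwP b)) ?_
    rw [map_mul π (w a), hπw, hπw, hπw, hγ, hsecmul, map_mul π a, mul_inv_rev,
      hab (π (sec (γ b)))⁻¹ (π (sec (γ a)))⁻¹]
    exact mul_mul_mul_comm _ _ _ _
  have hνρ : ∀ a, ν (ρ a) = ω * ν a := fun a => by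
    show κ _ = ω * κ _
    rw [← hκρ _ (hwP a)]
    refine hκcong _ (hwP _) _ (hPr _ (hwP a)) ?_
    have hsec : π (sec (ω * γ a)) = ρq (π (sec (γ a))) := by
      show π (Additive.toMul (s (ω * γ a))).out = ρq (π (Additive.toMul (s (γ a))).out)
      rw [hout, hout, hsR]; rfl
    rw [hπw, hγρ, hsec, ← hπρ (w a), hπw, map_mul, map_inv, ← hπρ a]
  have hνP : ∀ u ∈ P, ν u = κ u := fun u hu => by
    refine hκcong _ (hwP _) _ hu ?_
    rw [hπw, (hγ0 u).2 hu]
    have : π (sec 0) = 1 := by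
      show π (Additive.toMul (s 0)).out = 1
      rw [hout, map_zero, toMul_zero]
    rw [this, inv_one, one_mul]
  -- the line
  let L : Subgroup T :=
    { carrier := {x | ν x = 0}
      one_mem' := by
        show ν 1 = 0
        rw [hνP 1 (one_mem P), hκ0 1 (one_mem P)]; exact one_mem Z
      mul_mem' := fun {a b} ha hb => show ν (a * b) = 0 by rw [hν, show ν a = 0 from ha, show ν b = 0 from hb, add_zero]
      inv_mem' := fun {a} ha => show ν a⁻¹ = 0 by
        have h := hν a a⁻¹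
        rw [mul_inv_cancel, hνP 1 (one_mem P), (hκ0 1 (one_mem P)).2 (one_mem Z), show ν a = 0 from ha,
          zero_add] at h
        exact h.symm }
  have hLmem : ∀ x, x ∈ L ↔ ν x = 0 := fun x => Iff.rfl
  have hZP : ∀ z ∈ Z, z ∈ P := fun z hz => by
    show π z ∈ U
    rw [show π z = 1 from (QuotientGroup.eq_one_iff z).2 hz]; exact one_mem U
  have hsecL : ∀ v, sec v ∈ L := fun v => by
    show κ (w (sec v)) = 0
    rw [hκ0 _ (hwP _)]
    show (sec (γ (sec v)))⁻¹ * sec v ∈ Z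
    rw [hsecγ, inv_mul_cancel]; exact one_mem Z
  have hLr : ∀ a ∈ L, ρ a ∈ L := fun a ha => by
    show ν (ρ a) = 0
    rw [hνρ, (hLmem a).1 ha, mul_zero]
  have hLker : ∀ a ∈ L, γ a = 0 → a ∈ Z := fun a ha h => by
    have haP := (hγ0 a).1 h
    rw [← hκ0 a haP, ← hνP a haP]; exact ha
  have hCz : ∀ c ∈ C, c ∈ Subgroup.center T := fun c hc => S.central hc
  have hLcomm : ∀ a ∈ L, ∀ b ∈ L, ι ⁅a, b⁆ = 0 := pairing_self (r := ⇑ρ) hLr (fun a _ b _ => hγ a b)
    (fun a _ => hγρ a) (fun v => ⟨sec v, hsecL v, hsecγ v⟩) hI.gen (fun a b => ι ⁅a, b⁆)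
    (fun a _ a' _ b _ => by
      rw [comm_mul_left_of_central (hCz _ (hcommC a' b))]; exact hI.mul _ (hcommC a b) _ (hcommC a' b))
    (fun a _ b _ b' _ => by
      rw [comm_mul_right_of_central (hCz _ (hcommC a b'))]; exact hI.mul _ (hcommC a b) _ (hcommC a b'))
    (fun a _ b _ => by
      show ι ⁅ρ a, ρ b⁆ = ω * ι ⁅a, b⁆
      rw [← map_commutatorElement, hI.equiv _ (hcommC a b)])
    (fun a _ => by show ι ⁅a, a⁆ = 0; rw [commutatorElement_self, hI.map_one])
    (fun a ha h b _ => ⟨by show ι ⁅a, b⁆ = 0; rw [comm_left_eq_one (hLker a ha h), hI.map_one],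
      by show ι ⁅b, a⁆ = 0; rw [comm_right_eq_one (hLker a ha h), hI.map_one]⟩)
  -- squares on an invariant abelian part are linear
  have hlin : ∀ (A : Subgroup T) (f : T → F), (∀ a ∈ A, ∀ b ∈ A, ι ⁅b, a⁆ = 0) → (∀ a ∈ A, ρ a ∈ A) →
      (∀ a ∈ A, ∀ b ∈ A, f (a * b) = f a + f b) → (∀ a ∈ A, f (ρ a) = ω * f a) →
      (∀ v, ∃ a ∈ A, f a = v) → (∀ a ∈ A, f a = 0 → a ∈ Z) → ∃ t : F, ∀ a ∈ A, ι (a * a) = t * f a := by
    intro A f hA hAr hf hfρ hfs hf0
    have hadd : ∀ a ∈ A, ∀ b ∈ A, ι (a * b * (a * b)) = ι (a * a) + ι (b * b) := fun a ha b hb => by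
      have e3 : a * b * (a * b) = ⁅b, a⁆ * (a * a * (b * b)) := by
        calc a * b * (a * b) = a * ⁅b, a⁆ * (a * b * b) := by simp only [commutatorElement_def]; group
          _ = _ := by rw [Subgroup.mem_center_iff.1 (hCz _ (hcommC b a)) a]; simp only [mul_assoc]
      rw [e3, hI.mul _ (hcommC b a) _ (mul_mem (hsq a) (hsq b)), hA a ha b hb, zero_add,
        hI.mul _ (hsq a) _ (hsq b)]
    choose gA hgA hgA' using hfs
    have hwd : ∀ a ∈ A, ∀ b ∈ A, f a = f b → ι (a * a) = ι (b * b) := fun a ha b hb e => by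
      have hab' := mul_mem ha hb
      have hz : a * b ∈ Z := hf0 _ hab' (by rw [hf a ha b hb, e, two])
      have h := hadd a ha b hb
      have h1 : a * b * (a * b) = 1 := S.sq_C _ (hcen ▸ hz)
      rw [h1, hI.map_one] at h
      exact CharTwo.add_eq_zero.1 h.symm
    have hl := equiv_add hI.gen (fun v => ι (gA v * gA v))
      (fun u v => by
        show ι (gA (u + v) * gA (u + v)) = ι (gA u * gA u) + ι (gA v * gA v)
        rw [← hadd _ (hgA u) _ (hgA v)]
        exact hwd _ (hgA _) _ (mul_mem (hgA u) (hgA v)) (by rw [hgA', hf _ (hgA u) _ (hgA v), hgA', hgA']))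
      (fun v => by
        show ι (gA (ω * v) * gA (ω * v)) = ω * ι (gA v * gA v)
        rw [← hI.equiv _ (hsq _), map_mul]
        exact hwd _ (hgA _) _ (hAr _ (hgA v)) (by rw [hgA', hfρ _ (hgA v), hgA']))
    exact ⟨ι (gA 1 * gA 1), fun a ha => (hwd a ha _ (hgA (f a)) (hgA' _).symm).trans (hl (f a))⟩
  obtain ⟨a, ha⟩ := hlin L γ (fun x hx y hy => hLcomm y hy x hx) hLr (fun x _ y _ => hγ x y)
    (fun x _ => hγρ x) (fun v => ⟨sec v, hsecL v, hsecγ v⟩) hLker
  obtain ⟨e, he⟩ := hlin P κ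
    (fun x hx y hy => by rw [commutatorElement_eq_one_iff_mul_comm.2 (hPcomm y hy x hx), hI.map_one])
    hPr hκ hκρ hκs (fun x hx h => (hκ0 x hx).1 h)
  obtain ⟨b, hb⟩ := pairing_sq (r := ⇑ρ) (A := L) (B := P) hLr hPr (fun x _ y _ => hγ x y) hκ
    (fun x _ => hγρ x) hκρ (fun v => ⟨sec v, hsecL v, hsecγ v⟩) hκs hI.gen (fun x u => ι ⁅u, x⁆)
    (fun x _ x' _ u _ => by
      rw [comm_mul_right_of_central (hCz _ (hcommC u x'))]; exact hI.mul _ (hcommC u x) _ (hcommC u x'))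
    (fun x _ u _ u' _ => by
      rw [comm_mul_left_of_central (hCz _ (hcommC u' x))]; exact hI.mul _ (hcommC u x) _ (hcommC u' x))
    (fun x _ u _ => by
      show ι ⁅ρ u, ρ x⁆ = ω * ι ⁅u, x⁆
      rw [← map_commutatorElement, hI.equiv _ (hcommC u x)])
    (fun x hx h u _ => by show ι ⁅u, x⁆ = 0; rw [comm_right_eq_one (hLker x hx h), hI.map_one])
    (fun u hu h x _ => by show ι ⁅u, x⁆ = 0; rw [comm_left_eq_one ((hκ0 u hu).1 h), hI.map_one])
  have hQ : ∀ x, ι (x * x) * ι (x * x) = a * a * (γ x * γ x) + e * e * (ν x * ν x) + b * (γ x * ν x) := by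
    intro x
    have hsL := hsecL (γ x)
    have e3 : x * x = ⁅w x, sec (γ x)⁆ * (sec (γ x) * sec (γ x) * (w x * w x)) := by
      set p := sec (γ x) with hp
      set u := w x with hu
      have hxpu : x = p * u := (mul_inv_cancel_left _ _).symm
      calc x * x = p * ⁅u, p⁆ * (p * u * u) := by rw [hxpu]; simp only [commutatorElement_def]; group
        _ = _ := by rw [Subgroup.mem_center_iff.1 (hCz _ (hcommC u p)) p]; simp only [mul_assoc]
    rw [e3, hI.mul _ (hcommC _ _) _ (mul_mem (hsq _) (hsq _)), hI.mul _ (hsq _) _ (hsq _), ha _ hsL,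
      he _ (hwP x), hsecγ]
    have h := hb _ hsL _ (hwP x)
    rw [hsecγ] at h
    show (ι ⁅w x, sec (γ x)⁆ + (a * γ x + e * ν x)) * (ι ⁅w x, sec (γ x)⁆ + (a * γ x + e * ν x)) = _
    linear_combination h + two (ι ⁅w x, sec (γ x)⁆ * (a * γ x + e * ν x)) + two (a * γ x * (e * ν x))
  -- invariance under `α`
  have hbe : b = e * e := by
    have hx := hQ (α (sec 1))
    have hdx := hdP (sec 1)
    have hαx : α (sec 1) = sec 1 * ((sec 1)⁻¹ * α (sec 1)) := (mul_inv_cancel_left _ _).symm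
    have hfix : α (sec 1) * α (sec 1) = sec 1 * sec 1 := by rw [← map_mul]; exact (S.fix_α _).2 (hsq _)
    rw [hfix, hQ, hαx, hγ, hν, hsecγ, (hγ0 _).2 hdx, hνP _ hdx, (hLmem _).1 (hsecL 1)] at hx
    rw [show κ ((sec 1)⁻¹ * α (sec 1)) = 1 from hsecγ 1] at hx
    linear_combination -hx - two (e * e)
  have he0 : e ≠ 0 := by
    intro h0
    refine hna ?_
    have hLP : ∀ x ∈ L, ∀ u ∈ P, u * x = x * u := fun x hx u hu => by
      have h := hb x hx u hu
      rw [hbe, h0, mul_zero, zero_mul] at h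
      exact commutatorElement_eq_one_iff_mul_comm.1 (hI.inj _ (hcommC u x) (mul_self_eq_zero.1 h))
    intro x y
    have hx : x = sec (γ x) * w x := (mul_inv_cancel_left _ _).symm
    have hy : y = sec (γ y) * w y := (mul_inv_cancel_left _ _).symm
    have h1 : Commute (sec (γ x)) (sec (γ y)) := commutatorElement_eq_one_iff_mul_comm.1
      (hI.inj _ (hcommC _ _) (hLcomm _ (hsecL _) _ (hsecL _)))
    have h2 : Commute (sec (γ x)) (w y) := (hLP _ (hsecL _) _ (hwP y)).symm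
    have h3 : Commute (w x) (sec (γ y)) := hLP _ (hsecL _) _ (hwP x)
    have h4 : Commute (w x) (w y) := hPcomm _ (hwP x) _ (hwP y)
    rw [hx, hy]
    exact ((h1.mul_right h2).mul_left (h3.mul_right h4)).eq
  refine ⟨fun x => (γ x, ν x), a * a / (e * e), e, he0, fun x y => Prod.ext (hγ x y) (hν x y), ?_, ?_, ?_⟩
  · rintro ⟨v₁, v₂⟩
    obtain ⟨u, hu, rfl⟩ := hκs v₂
    refine ⟨sec v₁ * u, Prod.ext ?_ ?_⟩
    · show γ _ = v₁
      rw [hγ, hsecγ, (hγ0 u).2 hu, add_zero]
    · show ν _ = κ u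
      rw [hν, (hLmem _).1 (hsecL v₁), hνP u hu, zero_add]
  · intro x
    rw [← hcen]
    refine ⟨fun h => hLker x (congrArg Prod.snd h) (congrArg Prod.fst h), fun h => ?_⟩
    have hx := hZP x h
    exact Prod.ext ((hγ0 x).2 hx) ((hνP x hx).trans ((hκ0 x hx).2 h))
  · intro x
    rw [hQ x, hbe]
    field_simp
    ring

end Setup

end Cfsg.Agent.SingerInvol
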