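import Cfsg.Agent.EqLemmas
import Mathlib.GroupTheory.Commutator.Basic
import Mathlib.Data.Fintype.Order

/-!
# Central extensions of elementary abelian 2-groups are determined by their squaring maps

* `exists_mulEquiv_of_sq`.
-/

set_option autoImplicit false

namespace Cfsg.Agent.SingerInvol

theorem exists_mulEquiv_of_sq {G H V : Type*} [Group G] [Group H] [Finite G] [Finite H] [AddCommGroup V]
    (p : G → V) (p' : H → V) (hp : ∀ a b, p (a * b) = p a + p b) (hp' : ∀ a b, p' (a * b) = p' a + p' b)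
    (hsurj : Function.Surjective p) (hsurj' : Function.Surjective p')
    (C : Subgroup G) (C' : Subgroup H) (hC : ∀ g, p g = 0 ↔ g ∈ C) (hC' : ∀ h, p' h = 0 ↔ h ∈ C')
    (hCz : C ≤ Subgroup.center G) (hCz' : C' ≤ Subgroup.center H)
    (ψ : G → H) (hψC : ∀ c ∈ C, ψ c ∈ C') (hψmul : ∀ a ∈ C, ∀ b ∈ C, ψ (a * b) = ψ a * ψ b)
    (hψinj : ∀ c ∈ C, ψ c = 1 → c = 1) (hψsurj : ∀ d ∈ C', ∃ c ∈ C, ψ c = d)
    (hsq : ∀ g, g * g ∈ C) (hψsq : ∀ g h, p g = p' h → ψ (g * g) = h * h) :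
    Nonempty (G ≃* H) := by
  classical
  have hψ1 : ψ 1 = 1 := by
    have h := hψmul 1 (one_mem C) 1 (one_mem C)
    rw [mul_one] at h
    exact mul_eq_left.1 h.symm
  have hp1 : p 1 = 0 := (hC 1).2 (one_mem C)
  have hp'1 : p' 1 = 0 := (hC' 1).2 (one_mem C')
  have hpinv : ∀ a, p a⁻¹ = -p a := fun a =>
    eq_neg_of_add_eq_zero_left (by rw [← hp, inv_mul_cancel, hp1])
  have hp'inv : ∀ a, p' a⁻¹ = -p' a := fun a =>
    eq_neg_of_add_eq_zero_left (by rw [← hp', inv_mul_cancel, hp'1])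
  -- the fibre product and the diagonal
  let D : Subgroup (G × H) :=
    { carrier := {x | p x.1 = p' x.2}
      one_mem' := by show p 1 = p' 1; rw [hp1, hp'1]
      mul_mem' := fun {x y} (hx : p x.1 = p' x.2) (hy : p y.1 = p' y.2) => by
        show p (x.1 * y.1) = p' (x.2 * y.2)
        rw [hp, hp', hx, hy]
      inv_mem' := fun {x} (hx : p x.1 = p' x.2) => by
        show p x.1⁻¹ = p' x.2⁻¹
        rw [hpinv, hp'inv, hx] }
  let Δ : Subgroup (G × H) :=
    { carrier := {x | x.1 ∈ C ∧ x.2 = ψ x.1}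
      one_mem' := ⟨one_mem C, hψ1.symm⟩
      mul_mem' := fun {x y} hx hy => ⟨mul_mem hx.1 hy.1, by
        show x.2 * y.2 = ψ (x.1 * y.1)
        rw [hψmul _ hx.1 _ hy.1, hx.2, hy.2]⟩
      inv_mem' := fun {x} hx => ⟨inv_mem hx.1, by
        show x.2⁻¹ = ψ x.1⁻¹
        rw [hx.2, eq_comm, ← mul_eq_one_iff_eq_inv, ← hψmul _ (inv_mem hx.1) _ hx.1, inv_mul_cancel, hψ1]⟩ }
  have hΔD : Δ ≤ D := fun x hx => by
    show p x.1 = p' x.2
    rw [(hC _).2 hx.1, hx.2, (hC' _).2 (hψC _ hx.1)]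
  have hsqD : ∀ x ∈ D, x * x ∈ Δ := fun x hx => ⟨hsq _, (hψsq _ _ hx).symm⟩
  have hΔz : ∀ x ∈ Δ, ∀ y : G × H, y * x = x * y := fun x hx y =>
    Prod.ext (Subgroup.mem_center_iff.1 (hCz hx.1) y.1)
      (Subgroup.mem_center_iff.1 (hCz' (hx.2.symm ▸ hψC _ hx.1 : x.2 ∈ C')) y.2)
  have hcommD : ∀ x ∈ D, ∀ y ∈ D, ∃ d ∈ Δ, x * y = d * (y * x) := by
    intro x hx y hy
    refine ⟨x * y * (y * x)⁻¹, ?_, by group⟩
    have e : x * y * (y * x)⁻¹ = (x * y) * (x * y) * (y⁻¹ * y⁻¹) * (x⁻¹ * x⁻¹) := by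
      have hz := hΔz _ (hsqD _ (inv_mem hy)) x⁻¹
      calc x * y * (y * x)⁻¹ = x * y * (x⁻¹ * y⁻¹) := by group
        _ = x * y * (x * y) * (y⁻¹ * (x⁻¹ * x⁻¹) * y⁻¹) := by group
        _ = x * y * (x * y) * ((x⁻¹ * x⁻¹) * (y⁻¹ * y⁻¹)) := by
            rw [hΔz _ (hsqD _ (inv_mem hx)) y⁻¹]; simp only [mul_assoc]
        _ = _ := by
            rw [← hΔz _ (hsqD _ (inv_mem hx)) (y⁻¹ * y⁻¹), mul_assoc (x * y * (x * y))]
    rw [e]
    exact mul_mem (mul_mem (hsqD _ (mul_mem hx hy)) (hsqD _ (inv_mem hy))) (hsqD _ (inv_mem hx))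
  -- a maximal subgroup avoiding `C × 1`
  let good : Subgroup (G × H) → Prop := fun L => Δ ≤ L ∧ L ≤ D ∧ ∀ c ∈ C, ((c, 1) : G × H) ∈ L → c = 1
  have hΔgood : good Δ := ⟨le_rfl, hΔD, fun c hc h => hψinj c hc h.2.symm⟩
  haveI : Finite (G × H) := inferInstance
  obtain ⟨L, -, hL⟩ := Finite.exists_le_maximal (p := good) hΔgood
  obtain ⟨hΔL, hLD, hLC⟩ := hL.prop
  have hfull : ∀ x ∈ D, ∃ c ∈ C, x * ((c, 1) : G × H) ∈ L := by
    intro x hx
    by_contra hne
    push Not at hne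
    have hmove : ∀ l ∈ L, ∃ l' ∈ L, x * l = l' * x := fun l hl => by
      obtain ⟨d, hd, e⟩ := hcommD x hx l (hLD hl)
      exact ⟨d * l, mul_mem (hΔL hd) hl, by rw [e, mul_assoc]⟩
    let L' : Subgroup (G × H) :=
      { carrier := {y | y ∈ L ∨ ∃ l ∈ L, y = l * x}
        one_mem' := Or.inl (one_mem L)
        mul_mem' := by
          rintro a b (ha | ⟨la, hla, rfl⟩) (hb | ⟨lb, hlb, rfl⟩)
          · exact Or.inl (mul_mem ha hb)
          · exact Or.inr ⟨a * lb, mul_mem ha hlb, by rw [mul_assoc]⟩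
          · obtain ⟨l', hl', e⟩ := hmove b hb
            exact Or.inr ⟨la * l', mul_mem hla hl', by rw [mul_assoc, e, mul_assoc]⟩
          · obtain ⟨l', hl', e⟩ := hmove lb hlb
            refine Or.inl ?_
            rw [show la * x * (lb * x) = la * l' * (x * x) by
              rw [← mul_assoc, mul_assoc la x lb, e]; simp only [mul_assoc]]
            exact mul_mem (mul_mem hla hl') (hΔL (hsqD x hx))
        inv_mem' := by
          rintro a (ha | ⟨la, hla, rfl⟩)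
          · exact Or.inl (inv_mem ha)
          · obtain ⟨l', hl', e⟩ := hmove la⁻¹ (inv_mem hla)
            refine Or.inr ⟨(x * x)⁻¹ * l', mul_mem (inv_mem (hΔL (hsqD x hx))) hl', ?_⟩
            rw [mul_assoc, ← e]; group }
    have hL'good : good L' := by
      refine ⟨fun a ha => Or.inl (hΔL ha), ?_, ?_⟩
      · rintro a (ha | ⟨la, hla, rfl⟩)
        · exact hLD ha
        · exact mul_mem (hLD hla) hx
      · rintro c hc (h | ⟨la, hla, e⟩)
        · exact hLC c hc h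
        · exfalso
          refine hne c⁻¹ (inv_mem hc) ?_
          have e1 : x = la⁻¹ * ((c, 1) : G × H) := by rw [e, inv_mul_cancel_left]
          rw [e1, mul_assoc, show ((c, 1) : G × H) * (c⁻¹, 1) = 1 from
            Prod.ext (mul_inv_cancel c) (mul_one 1), mul_one]
          exact inv_mem hla
    have hxL : x ∈ L := by
      rw [hL.eq_of_le hL'good fun a ha => Or.inl ha]
      exact Or.inr ⟨1, one_mem L, (one_mul x).symm⟩
    exact hne 1 (one_mem C) (mul_mem hxL (one_mem L))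
  let f₁ : L →* G := (MonoidHom.fst G H).comp L.subtype
  let f₂ : L →* H := (MonoidHom.snd G H).comp L.subtype
  have hb₁ : Function.Bijective f₁ := by
    refine ⟨(injective_iff_map_eq_one f₁).2 ?_, fun g => ?_⟩
    · rintro ⟨⟨g, h⟩, hgh⟩ (hg : g = 1)
      subst hg
      have hh : h ∈ C' := by
        rw [← hC', ← show p 1 = p' h from hLD hgh, hp1]
      obtain ⟨c, hc, rfl⟩ := hψsurj h hh
      have hm : ((c, ψ c) : G × H) ∈ L := hΔL ⟨hc, rfl⟩
      have h2 := hLC c hc (by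
        have := mul_mem hm (inv_mem hgh)
        rwa [Prod.inv_mk, Prod.mk_mul_mk, inv_one, mul_one, mul_inv_cancel] at this)
      exact Subtype.ext (Prod.ext rfl (by show ψ c = 1; rw [h2, hψ1]))
    · obtain ⟨h, hh⟩ := hsurj' (p g)
      obtain ⟨c, hc, hcL⟩ := hfull (g, h) hh.symm
      have hm : ((c, ψ c) : G × H) ∈ L := hΔL ⟨hc, rfl⟩
      refine ⟨⟨_, mul_mem hcL (inv_mem hm)⟩, ?_⟩
      show g * c * c⁻¹ = g
      rw [mul_inv_cancel_right]
  have hb₂ : Function.Bijective f₂ := by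
    refine ⟨(injective_iff_map_eq_one f₂).2 ?_, fun h => ?_⟩
    · rintro ⟨⟨g, h⟩, hgh⟩ (hh : h = 1)
      subst hh
      have hg : g ∈ C := by rw [← hC, show p g = p' 1 from hLD hgh, hp'1]
      exact Subtype.ext (Prod.ext (hLC g hg hgh) rfl)
    · obtain ⟨g, hg⟩ := hsurj (p' h)
      obtain ⟨c, -, hcL⟩ := hfull (g, h) hg
      exact ⟨⟨_, hcL⟩, mul_one h⟩
  exact ⟨(MulEquiv.ofBijective f₁ hb₁).symm.trans (MulEquiv.ofBijective f₂ hb₂)⟩

end Cfsg.Agent.SingerInvol
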