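import Cfsg.Agent.Lib.SuzukiTwo.Layers

/-!
# Additive and biadditive maps of a finite field commuting with a generator

* `equiv_add`: an additive map commuting with multiplication by a generator is a multiplication.
* `equiv_biadd`: the square of such a biadditive map is a multiple of the product.
* `Coord`: a coordinate of a subgroup in a field.
* `pairing_sq`: an equivariant pairing of two groups with field coordinates.
-/

set_option autoImplicit false
set_option linter.unusedSectionVars false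

namespace Cfsg.Agent.SingerInvol

open SuzukiTwo

variable {F : Type*} [Field F] [Fintype F] [CharP F 2] {ω : F} (hgen : ∀ x : F, x ≠ 0 → ∃ j : ℕ, ω ^ j = x)
include hgen

theorem equiv_add (f : F → F) (hadd : ∀ x y, f (x + y) = f x + f y) (hω : ∀ x, f (ω * x) = ω * f x)
    (x : F) : f x = f 1 * x := by
  by_cases hx : x = 0
  · subst hx
    have h := hadd 0 0
    rw [add_zero] at h
    rw [mul_zero]
    linear_combination -h
  · obtain ⟨j, rfl⟩ := hgen x hx
    induction j with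
    | zero => simp
    | succ j ih =>
      by_cases hj : ω ^ j = 0
      · exact absurd (by rw [pow_succ, hj, zero_mul]) hx
      · rw [pow_succ', hω, ih hj]; ring

theorem equiv_biadd (D : F → F → F) (hl : ∀ x x' y, D (x + x') y = D x y + D x' y)
    (hr : ∀ x y y', D x (y + y') = D x y + D x y') (hω : ∀ x y, D (ω * x) (ω * y) = ω * D x y)
    (x y : F) : D x y * D x y = D 1 1 * D 1 1 * (x * y) := by
  classical
  let Db : F →+ F →+ F := AddMonoidHom.mk' (fun x => AddMonoidHom.mk' (D x) (hr x)) fun x x' => by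
    ext y; exact hl x x' y
  obtain ⟨c, hc0⟩ := exists_biadd Db
  have hc : ∀ x y, D x y = ∑ σ, ∑ τ, c σ τ * (σ x * τ y) := hc0
  have heq : ∀ σ τ, c σ τ * (σ ω * τ ω) = ω * c σ τ := by
    intro σ τ
    have h1 : ∀ x, (fun τ => ∑ σ, c σ τ * (σ ω * τ ω) * σ x) =
        fun τ => ∑ σ, ω * c σ τ * σ x := by
      intro x
      refine autSum_injective fun y => ?_
      have h := hω x y
      rw [hc, hc, Finset.mul_sum] at h
      simp only [map_mul, Finset.mul_sum] at h
      simp only [Finset.sum_mul]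
      rw [Finset.sum_comm]
      refine Eq.trans ?_ (h.trans ?_)
      · exact Finset.sum_congr rfl fun σ _ => Finset.sum_congr rfl fun τ _ => by ring
      · conv_rhs => rw [Finset.sum_comm]
        exact Finset.sum_congr rfl fun σ _ => Finset.sum_congr rfl fun τ _ => by ring
    exact congrFun (autSum_injective fun x => congrFun (h1 x) τ) σ
  let s : F ≃+* F := (frobeniusEquiv F 2).symm
  have hs : ∀ x, s x * s x = x := fun x => by
    have h : frobeniusEquiv F 2 (s x) = x := (frobeniusEquiv F 2).apply_symm_apply x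
    rwa [frobeniusEquiv_apply, frobenius_def, pow_two] at h
  have hsupp : ∀ σ τ, c σ τ ≠ 0 → σ = s ∧ τ = s := by
    intro σ τ hne
    have hστ : σ ω * τ ω = ω := mul_left_cancel₀ hne ((heq σ τ).trans (mul_comm _ _))
    have h : ∀ x, σ x * τ x = s x * s x := by
      intro x
      rw [hs]
      by_cases hx : x = 0
      · simp [hx]
      · obtain ⟨j, rfl⟩ := hgen x hx
        rw [map_pow, map_pow, ← mul_pow, hστ]
    rcases prod_eq_prod h with h | h <;> exact h
  have hsum : ∀ x y, D x y = c s s * (s x * s y) := by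
    intro x y
    rw [hc, Finset.sum_eq_single s, Finset.sum_eq_single s]
    · intro τ _ hτ
      by_cases h : c s τ = 0
      · rw [h, zero_mul]
      · exact absurd (hsupp _ _ h).2 hτ
    · intro h; exact absurd (Finset.mem_univ _) h
    · intro σ _ hσ
      refine Finset.sum_eq_zero fun τ _ => ?_
      by_cases h : c σ τ = 0
      · rw [h, zero_mul]
      · exact absurd (hsupp _ _ h).1 hσ
    · intro h; exact absurd (Finset.mem_univ _) h
  rw [hsum x y, hsum 1 1, map_one]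
  linear_combination c s s * c s s * (s y * s y) * hs x + c s s * c s s * x * hs y

omit hgen

/-- A coordinate of the subgroup `C` in `F`, turning `r` into multiplication by `ω`. -/
structure Coord {T : Type*} [Group T] (r : T → T) (C : Subgroup T) (ι : T → F) (ω : F) : Prop where
  mul : ∀ a ∈ C, ∀ b ∈ C, ι (a * b) = ι a + ι b
  inj : ∀ a ∈ C, ι a = 0 → a = 1
  surj : ∀ x : F, ∃ a ∈ C, ι a = x
  equiv : ∀ a ∈ C, ι (r a) = ω * ι a
  gen : ∀ x : F, x ≠ 0 → ∃ j : ℕ, ω ^ j = x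
  ne_one : ω ≠ 1

theorem Coord.map_one {T : Type*} [Group T] {r : T → T} {C : Subgroup T} {ι : T → F} {ω : F}
    (h : Coord r C ι ω) : ι 1 = 0 := by
  have e := h.mul 1 (one_mem C) 1 (one_mem C)
  rw [mul_one] at e
  linear_combination -e

/-- An equivariant pairing of two subgroups with coordinates, with values in a subgroup with
coordinates, is the product up to squaring. -/
theorem pairing_sq {T : Type*} [Group T] {r : T → T} {A B : Subgroup T} {κ μ : T → F}
    (hrA : ∀ a ∈ A, r a ∈ A) (hrB : ∀ b ∈ B, r b ∈ B)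
    (hκ : ∀ a ∈ A, ∀ a' ∈ A, κ (a * a') = κ a + κ a') (hμ : ∀ b ∈ B, ∀ b' ∈ B, μ (b * b') = μ b + μ b')
    (hκr : ∀ a ∈ A, κ (r a) = ω * κ a) (hμr : ∀ b ∈ B, μ (r b) = ω * μ b)
    (hκs : ∀ x, ∃ a ∈ A, κ a = x) (hμs : ∀ x, ∃ b ∈ B, μ b = x)
    (hgen : ∀ x : F, x ≠ 0 → ∃ j : ℕ, ω ^ j = x)
    (D : T → T → F) (hl : ∀ a ∈ A, ∀ a' ∈ A, ∀ b ∈ B, D (a * a') b = D a b + D a' b)
    (hr : ∀ a ∈ A, ∀ b ∈ B, ∀ b' ∈ B, D a (b * b') = D a b + D a b')
    (hDr : ∀ a ∈ A, ∀ b ∈ B, D (r a) (r b) = ω * D a b)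
    (hκ0 : ∀ a ∈ A, κ a = 0 → ∀ b ∈ B, D a b = 0) (hμ0 : ∀ b ∈ B, μ b = 0 → ∀ a ∈ A, D a b = 0) :
    ∃ c : F, ∀ a ∈ A, ∀ b ∈ B, D a b * D a b = c * (κ a * μ b) := by
  choose ga hga hga' using hκs
  choose gb hgb hgb' using hμs
  have two : ∀ x : F, x + x = 0 := CharTwo.add_self_eq_zero
  have hwdA : ∀ a ∈ A, ∀ a' ∈ A, κ a = κ a' → ∀ b ∈ B, D a b = D a' b := by
    intro a ha a' ha' e b hb
    have h1 := hκ0 (a * a') (mul_mem ha ha') (by rw [hκ a ha a' ha', e, two]) b hb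
    rw [hl a ha a' ha' b hb] at h1
    exact CharTwo.add_eq_zero.1 h1
  have hwdB : ∀ b ∈ B, ∀ b' ∈ B, μ b = μ b' → ∀ a ∈ A, D a b = D a b' := by
    intro b hb b' hb' e a ha
    have h1 := hμ0 (b * b') (mul_mem hb hb') (by rw [hμ b hb b' hb', e, two]) a ha
    rw [hr a ha b hb b' hb'] at h1
    exact CharTwo.add_eq_zero.1 h1
  let D' : F → F → F := fun x y => D (ga x) (gb y)
  have h := equiv_biadd hgen D'
    (fun x x' y => by
      show D (ga (x + x')) (gb y) = D (ga x) (gb y) + D (ga x') (gb y)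
      rw [← hl _ (hga x) _ (hga x') _ (hgb y)]
      exact hwdA _ (hga _) _ (mul_mem (hga x) (hga x')) (by rw [hga', hκ _ (hga x) _ (hga x'), hga', hga']) _ (hgb y))
    (fun x y y' => by
      show D (ga x) (gb (y + y')) = D (ga x) (gb y) + D (ga x) (gb y')
      rw [← hr _ (hga x) _ (hgb y) _ (hgb y')]
      exact hwdB _ (hgb _) _ (mul_mem (hgb y) (hgb y')) (by rw [hgb', hμ _ (hgb y) _ (hgb y'), hgb', hgb']) _ (hga x))
    (fun x y => by
      show D (ga (ω * x)) (gb (ω * y)) = ω * D (ga x) (gb y)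
      rw [← hDr _ (hga x) _ (hgb y),
        hwdA _ (hga _) _ (hrA _ (hga x)) (by rw [hga', hκr _ (hga x), hga']) _ (hgb _),
        hwdB _ (hgb _) _ (hrB _ (hgb y)) (by rw [hgb', hμr _ (hgb y), hgb']) _ (hrA _ (hga x))])
  refine ⟨D' 1 1 * D' 1 1, fun a ha b hb => ?_⟩
  rw [← h (κ a) (μ b), hwdA a ha _ (hga (κ a)) (hga' _).symm b hb,
    hwdB b hb _ (hgb (μ b)) (hgb' _).symm _ (hga _)]

/-- An equivariant alternating pairing of a subgroup with itself vanishes. -/
theorem pairing_self {T : Type*} [Group T] {r : T → T} {A : Subgroup T} {κ : T → F}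
    (hrA : ∀ a ∈ A, r a ∈ A) (hκ : ∀ a ∈ A, ∀ a' ∈ A, κ (a * a') = κ a + κ a')
    (hκr : ∀ a ∈ A, κ (r a) = ω * κ a) (hκs : ∀ x, ∃ a ∈ A, κ a = x)
    (hgen : ∀ x : F, x ≠ 0 → ∃ j : ℕ, ω ^ j = x)
    (D : T → T → F) (hl : ∀ a ∈ A, ∀ a' ∈ A, ∀ b ∈ A, D (a * a') b = D a b + D a' b)
    (hr : ∀ a ∈ A, ∀ b ∈ A, ∀ b' ∈ A, D a (b * b') = D a b + D a b')
    (hDr : ∀ a ∈ A, ∀ b ∈ A, D (r a) (r b) = ω * D a b)
    (hself : ∀ a ∈ A, D a a = 0) (hκ0 : ∀ a ∈ A, κ a = 0 → ∀ b ∈ A, D a b = 0 ∧ D b a = 0) :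
    ∀ a ∈ A, ∀ b ∈ A, D a b = 0 := by
  obtain ⟨c, hc⟩ := pairing_sq hrA hrA hκ hκ hκr hκr hκs hκs hgen D hl hr hDr
    (fun a ha h b hb => (hκ0 a ha h b hb).1) (fun b hb h a ha => (hκ0 b hb h a ha).2)
  obtain ⟨e, he, he1⟩ := hκs 1
  have h1 := hc e he e he
  rw [hself e he, he1] at h1
  intro a ha b hb
  have h2 := hc a ha b hb
  rw [show c = 0 by simpa using h1.symm, zero_mul] at h2
  exact mul_self_eq_zero.1 h2

end Cfsg.Agent.SingerInvol
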