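import Cfsg.Agent.Lib.SingerInvol.Coords
import Cfsg.Agent.Lib.SingerInvol.ExtIso
import Cfsg.Agent.Lib.AutPSL.Sylow
import Cfsg.Agent.Lib.Unitary.SylowThree
import Mathlib.RingTheory.AdjoinRoot

/-!
# The two models

* `exists_psl_sylow`: a reducible form gives a Sylow 2-subgroup of `PSL₃(q)`.
* `exists_psu_sylow`: an irreducible form gives a Sylow 2-subgroup of `PSU₃(q)`.
-/

set_option autoImplicit false
set_option linter.unusedSectionVars false

namespace Cfsg.Agent.SingerInvol

variable {T : Type*} [Group T] [Finite T] {F : Type} [Field F] [Fintype F] [CharP F 2]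

/-- A group with a squaring map of the form `e² (k γ² + γ κ + κ²)`. -/
structure FormData (C : Subgroup T) (ι : T → F) (p : T → F × F) (k e : F) : Prop where
  e_ne : e ≠ 0
  mul : ∀ a ∈ C, ∀ b ∈ C, ι (a * b) = ι a + ι b
  inj : ∀ a ∈ C, ι a = 0 → a = 1
  ι_surj : ∀ x : F, ∃ a ∈ C, ι a = x
  central : C ≤ Subgroup.center T
  p_mul : ∀ a b, p (a * b) = p a + p b
  surj : Function.Surjective p
  ker : ∀ x, p x = 0 ↔ x ∈ C
  sq_mem : ∀ x : T, x * x ∈ C
  form : ∀ x, ι (x * x) * ι (x * x) =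
    e * e * (k * ((p x).1 * (p x).1) + (p x).1 * (p x).2 + (p x).2 * (p x).2)

/-- The normalised coordinate of the central part. -/
def cc (ι : T → F) (e : F) (c : T) : F := ι c * ι c / (e * e)

variable {C : Subgroup T} {ι : T → F} {p : T → F × F} {k e : F}

theorem FormData.cc_mul (D : FormData C ι p k e) {a b : T} (ha : a ∈ C) (hb : b ∈ C) :
    cc ι e (a * b) = cc ι e a + cc ι e b := by
  rw [cc, cc, cc, D.mul a ha b hb, ← add_div]
  congr 1
  linear_combination CharTwo.add_self_eq_zero (ι a * ι b)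

theorem FormData.cc_inj (D : FormData C ι p k e) {a : T} (ha : a ∈ C) (h : cc ι e a = 0) : a = 1 := by
  rw [cc, div_eq_zero_iff] at h
  rcases h with h | h
  · exact D.inj a ha (mul_self_eq_zero.1 h)
  · exact absurd (mul_self_eq_zero.1 h) D.e_ne

theorem FormData.cc_surj (D : FormData C ι p k e) (x : F) : ∃ a ∈ C, cc ι e a = x := by
  let s : F := (frobeniusEquiv F 2).symm (x * (e * e))
  have hs : s * s = x * (e * e) := by
    have h : frobeniusEquiv F 2 s = x * (e * e) := (frobeniusEquiv F 2).apply_symm_apply _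
    rwa [frobeniusEquiv_apply, frobenius_def, pow_two] at h
  obtain ⟨a, ha, has⟩ := D.ι_surj s
  refine ⟨a, ha, ?_⟩
  rw [cc, has, hs, mul_div_assoc, div_self (mul_ne_zero D.e_ne D.e_ne), mul_one]

theorem FormData.cc_sq (D : FormData C ι p k e) (x : T) :
    cc ι e (x * x) = k * ((p x).1 * (p x).1) + (p x).1 * (p x).2 + (p x).2 * (p x).2 := by
  rw [cc, D.form, mul_div_cancel_left₀ _ (mul_ne_zero D.e_ne D.e_ne)]

theorem exists_psl_sylow (D : FormData C ι p k e) {r : F} (hr : r * r + r + k = 0) :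
    ∃ S : Sylow 2 (Matrix.ProjectiveSpecialLinearGroup (Fin 3) F),
      Nonempty (T ≃* ↥(S : Subgroup (Matrix.ProjectiveSpecialLinearGroup (Fin 3) F))) := by
  classical
  haveI : Fact (Nat.Prime 2) := ⟨Nat.prime_two⟩
  let H := AutPSL.upperUS F 3
  let ent : H → Fin 3 → Fin 3 → F :=
    fun g i j => ((g : Matrix.SpecialLinearGroup (Fin 3) F) : Matrix (Fin 3) (Fin 3) F) i j
  have hlow : ∀ (g : H) (i j : Fin 3), j < i → ent g i j = 0 := fun g i j h => (AutPSL.mem_upperUS.1 g.2).1 h
  have hone : ∀ (g : H) (i : Fin 3), ent g i i = 1 := fun g i => (AutPSL.mem_upperUS.1 g.2).2 i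
  have hext : ∀ g h : H, ent g 0 1 = ent h 0 1 → ent g 1 2 = ent h 1 2 → ent g 0 2 = ent h 0 2 → g = h := by
    intro g h e1 e2 e3
    apply Subtype.ext; apply Subtype.ext
    ext i j
    show ent g i j = ent h i j
    fin_cases i <;> fin_cases j <;> first | exact e1 | exact e2 | exact e3 | rw [hone, hone] | rw [hlow _ _ _ (by decide), hlow _ _ _ (by decide)]
  have hmul : ∀ (g h : H), ent (g * h) 0 1 = ent g 0 1 + ent h 0 1 ∧ ent (g * h) 1 2 = ent g 1 2 + ent h 1 2 ∧
      ent (g * h) 0 2 = ent g 0 2 + ent h 0 2 + ent g 0 1 * ent h 1 2 := by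
    intro g h
    have hm : ∀ i j, ent (g * h) i j = ∑ l, ent g i l * ent h l j := fun i j => by
      show ((((g * h : H) : Matrix.SpecialLinearGroup (Fin 3) F)) : Matrix (Fin 3) (Fin 3) F) i j = _
      rw [Subgroup.coe_mul, Matrix.SpecialLinearGroup.coe_mul, Matrix.mul_apply]
    refine ⟨?_, ?_, ?_⟩ <;> rw [hm, Fin.sum_univ_three] <;>
      simp only [hone, hlow _ 1 0 (by decide), hlow _ 2 0 (by decide), hlow _ 2 1 (by decide)] <;> ring
  have hmk : ∀ a b c : F, ∃ g : H, ent g 0 1 = a ∧ ent g 1 2 = b ∧ ent g 0 2 = c := by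
    intro a b c
    let M : Matrix (Fin 3) (Fin 3) F := !![1, a, c; 0, 1, b; 0, 0, 1]
    have hM : M.BlockTriangular id := fun i j h => by
      fin_cases i <;> fin_cases j <;> simp_all [M]
    refine ⟨⟨⟨M, by simp [M, Matrix.det_fin_three]⟩, AutPSL.mem_upperUS.2 ⟨hM, fun i => ?_⟩⟩, rfl, rfl, rfl⟩
    fin_cases i <;> simp [M]
  have h1 : ent 1 0 1 = 0 ∧ ent 1 1 2 = 0 ∧ ent 1 0 2 = 0 := by
    refine ⟨?_, ?_, ?_⟩ <;> simp [ent]
  have two : ∀ x : F, x + x = 0 := CharTwo.add_self_eq_zero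
  let p' : H → F × F := fun g => (ent g 0 1, ent g 1 2)
  let pT : T → F × F := fun x => ((p x).2 + r * (p x).1, (p x).2 + (r + 1) * (p x).1)
  let C' : Subgroup H :=
    { carrier := {g | ent g 0 1 = 0 ∧ ent g 1 2 = 0}
      one_mem' := ⟨h1.1, h1.2.1⟩
      mul_mem' := fun {g h} hg hh => ⟨by rw [(hmul g h).1, hg.1, hh.1, add_zero],
        by rw [(hmul g h).2.1, hg.2, hh.2, add_zero]⟩
      inv_mem' := fun {g} hg => by
        obtain ⟨e1, e2, -⟩ := hmul g g⁻¹
        rw [mul_inv_cancel, h1.1, hg.1, zero_add] at e1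
        rw [mul_inv_cancel, h1.2.1, hg.2, zero_add] at e2
        exact ⟨e1.symm, e2.symm⟩ }
  choose ψ hψ1 hψ2 hψ3 using fun c : T => hmk 0 0 (cc ι e c)
  have hcz : C' ≤ Subgroup.center H := fun g hg => Subgroup.mem_center_iff.2 fun h => by
    refine hext _ _ ?_ ?_ ?_
    · rw [(hmul h g).1, (hmul g h).1, add_comm]
    · rw [(hmul h g).2.1, (hmul g h).2.1, add_comm]
    · rw [(hmul h g).2.2, (hmul g h).2.2, hg.1, hg.2]; ring
  obtain ⟨eqv⟩ := exists_mulEquiv_of_sq pT p'
    (fun a b => Prod.ext (by simp only [pT, D.p_mul, Prod.fst_add, Prod.snd_add]; ring)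
      (by simp only [pT, D.p_mul, Prod.fst_add, Prod.snd_add]; ring))
    (fun a b => Prod.ext (hmul a b).1 (hmul a b).2.1)
    (fun v => by
      obtain ⟨x, hx⟩ := D.surj (v.1 + v.2, v.1 + r * (v.1 + v.2))
      refine ⟨x, Prod.ext ?_ ?_⟩
      · simp only [pT, hx]; linear_combination two (r * (v.1 + v.2))
      · simp only [pT, hx]; linear_combination two (r * (v.1 + v.2)) + two v.1)
    (fun v => by obtain ⟨g, e1, e2, -⟩ := hmk v.1 v.2 0; exact ⟨g, Prod.ext e1 e2⟩)
    C C'
    (fun x => by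
      rw [← D.ker]
      refine ⟨fun h => ?_, fun h => by simp [pT, h]⟩
      have e1 : (p x).2 + r * (p x).1 = 0 := congrArg Prod.fst h
      have e2 : (p x).2 + (r + 1) * (p x).1 = 0 := congrArg Prod.snd h
      have e3 : (p x).1 = 0 := by linear_combination e2 - e1
      exact Prod.ext e3 (by rw [e3, mul_zero, add_zero] at e1; exact e1))
    (fun g => ⟨fun h => ⟨congrArg Prod.fst h, congrArg Prod.snd h⟩, fun h => Prod.ext h.1 h.2⟩)
    D.central hcz ψ (fun c _ => ⟨hψ1 c, hψ2 c⟩)
    (fun a ha b hb => hext _ _ (by rw [(hmul _ _).1, hψ1, hψ1, hψ1, add_zero])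
      (by rw [(hmul _ _).2.1, hψ2, hψ2, hψ2, add_zero])
      (by rw [(hmul _ _).2.2, hψ3, hψ3, hψ3, hψ1, zero_mul, add_zero, D.cc_mul ha hb]))
    (fun c hc h => D.cc_inj hc (by rw [← hψ3 c, h, h1.2.2]))
    (fun d hd => by
      obtain ⟨c, hc, hcd⟩ := D.cc_surj (ent d 0 2)
      exact ⟨c, hc, hext _ _ ((hψ1 c).trans hd.1.symm) ((hψ2 c).trans hd.2.symm) ((hψ3 c).trans hcd)⟩)
    D.sq_mem
    (fun x h hxh => by
      have e1 : (p x).2 + r * (p x).1 = ent h 0 1 := congrArg Prod.fst hxh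
      have e2 : (p x).2 + (r + 1) * (p x).1 = ent h 1 2 := congrArg Prod.snd hxh
      obtain ⟨m1, m2, m3⟩ := hmul h h
      refine hext _ _ ?_ ?_ ?_
      · rw [hψ1, m1, two]
      · rw [hψ2, m2, two]
      · rw [hψ3, m3, two, zero_add, D.cc_sq, ← e1, ← e2]
        linear_combination (p x).1 * (p x).1 * hr - two (r * ((p x).1 * (p x).2)) -
          two (r * r * ((p x).1 * (p x).1)) - two (r * ((p x).1 * (p x).1)))
  obtain ⟨S, hS⟩ := AutPSL.exists_sylow_upperUP (F := F) (m := 1) 2
  let f : H →* AutPSL.upperUP F 1 := MonoidHom.mk'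
    (fun s => ⟨AutPSL.proj _ F s, s, s.2, rfl⟩) fun a b => Subtype.ext (map_mul (AutPSL.proj _ F) _ _)
  have hf : Function.Bijective f := by
    refine (Nat.bijective_iff_surjective_and_card _).2 ⟨?_, (AutPSL.card_upperUP (F := F) (m := 1)).symm⟩
    rintro ⟨_, s, hs, rfl⟩
    exact ⟨⟨s, hs⟩, rfl⟩
  exact ⟨S, ⟨eqv.trans ((MulEquiv.ofBijective f hf).trans (MulEquiv.subgroupCongr hS.symm))⟩⟩

open Polynomial in
theorem exists_psu_sylow {n : ℕ} (hn : 1 ≤ n) (hF : Nat.card F = 2 ^ n) (D : FormData C ι p k e)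
    (hirr : ∀ r : F, r * r + r + k ≠ 0) :
    ∃ (E : Type) (_ : Field E) (_ : Fintype E), Fintype.card E = 4 ^ n ∧
      ∃ S : Sylow 2 (Cfsg.PSU 3 E (2 ^ n)),
        Nonempty (T ≃* ↥(S : Subgroup (Cfsg.PSU 3 E (2 ^ n)))) := by
  classical
  let f : F[X] := X ^ 2 + X + Polynomial.C k
  have hdeg : f.natDegree = 2 := by
    simp only [f]
    compute_degree!
  have hmonic : f.Monic := by
    simp only [f]
    monicity!
  haveI hfirr : Fact (Irreducible f) := ⟨by
    refine (hmonic.irreducible_iff_roots_eq_zero_of_degree_le_three (by omega) (by omega)).2 ?_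
    refine Multiset.eq_zero_of_forall_notMem fun r hr => hirr r ?_
    rw [mem_roots hmonic.ne_zero] at hr
    simp only [f, IsRoot.def, eval_add, eval_pow, eval_mul, eval_X, eval_C, pow_two] at hr
    exact hr⟩
  haveI : FiniteDimensional F (AdjoinRoot f) := (AdjoinRoot.powerBasis hmonic.ne_zero).finite
  haveI : Finite (AdjoinRoot f) := Module.finite_of_finite F
  letI : Fintype (AdjoinRoot f) := Fintype.ofFinite _
  have hE : Fintype.card (AdjoinRoot f) = (2 ^ n) ^ 2 := by
    rw [Module.card_eq_pow_finrank (K := F), (AdjoinRoot.powerBasis hmonic.ne_zero).finrank,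
      AdjoinRoot.powerBasis_dim, hdeg, ← Nat.card_eq_fintype_card, hF]
  let j := AdjoinRoot.of f
  have hjinj : Function.Injective j := j.injective
  haveI : CharP (AdjoinRoot f) 2 := charP_of_injective_ringHom hjinj 2
  have two : ∀ x : AdjoinRoot f, x + x = 0 := CharTwo.add_self_eq_zero
  have h2 : (2 : AdjoinRoot f) = 0 := CharTwo.two_eq_zero
  have hjq : ∀ x : F, j x ^ (2 ^ n) = j x := fun x => by
    rw [← map_pow]; congr 1
    rw [← hF, Nat.card_eq_fintype_card]; exact FiniteField.pow_card x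
  set r := AdjoinRoot.root f with hrdef
  have hr : r * r + r + j k = 0 := by
    have h := AdjoinRoot.eval₂_root f
    simp only [f, eval₂_add, eval₂_pow, eval₂_mul, eval₂_X, eval₂_C, pow_two] at h
    exact h
  have hrnot : ∀ x : F, j x ≠ r := fun x hx => hirr x (hjinj (by
    rw [map_zero, map_add, map_add, map_mul, hx]; exact hr))
  let z : F × F → AdjoinRoot f := fun v => j v.2 + j v.1 * r
  have hzinj : Function.Injective z := by
    intro v w h
    have e : j (v.1 - w.1) * r = j (w.2 - v.2) := by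
      rw [map_sub, map_sub]; linear_combination h
    by_cases hd : v.1 - w.1 = 0
    · rw [hd, map_zero, zero_mul] at e
      have e' : w.2 - v.2 = 0 := hjinj (by rw [map_zero]; exact e.symm)
      exact Prod.ext (sub_eq_zero.1 hd) (sub_eq_zero.1 e').symm
    · refine absurd ?_ (hrnot ((w.2 - v.2) / (v.1 - w.1)))
      rw [map_div₀, ← e, mul_div_cancel_left₀ _ fun h0 => hd (hjinj (h0.trans (map_zero j).symm))]
  have hzbij : Function.Bijective z := hzinj.bijective_of_nat_card_le (by
    rw [Nat.card_prod, hF, Nat.card_eq_fintype_card, hE, pow_two])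
  have hrq : r ^ (2 ^ n) = r + 1 := by
    set s := r ^ (2 ^ n) with hs
    have hs2 : s * s + s + j k = 0 := by
      have h : (r * r + r + j k) ^ (2 ^ n) = 0 := by rw [hr, zero_pow (by positivity)]
      rw [add_pow_char_pow, add_pow_char_pow, mul_pow, hjq] at h
      exact h
    have hne : s ≠ r := fun h => by
      obtain ⟨v, hv⟩ := hzbij.2 r
      -- otherwise every element would be fixed by the Frobenius of `F`
      have hall : ∀ x : AdjoinRoot f, x ^ (2 ^ n) = x := fun x => by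
        obtain ⟨v, rfl⟩ := hzbij.2 x
        show (j v.2 + j v.1 * r) ^ (2 ^ n) = _
        rw [add_pow_char_pow, mul_pow, hjq, hjq, ← hs, h]
      have hq : 1 < 2 ^ n := Nat.one_lt_two_pow (by omega)
      have hc : Nat.card {x : AdjoinRoot f // x ^ (2 ^ n) = x} = (2 ^ n) ^ 2 := by
        rw [Nat.card_congr (Equiv.subtypeUnivEquiv hall), Nat.card_eq_fintype_card, hE]
      rw [Unitary.card_fixed hE] at hc
      nlinarith
    have h : (s + r) * (s + r + 1) = 0 := by
      linear_combination hs2 + hr + two (s * r) - two (j k)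
    rcases mul_eq_zero.1 h with h' | h'
    · exact absurd (CharTwo.add_eq_zero.1 h') hne
    · linear_combination h' - two r - two (1 : AdjoinRoot f)
  refine ⟨AdjoinRoot f, inferInstance, inferInstance, by rw [hE, ← pow_mul, mul_comm, pow_mul]; norm_num, ?_⟩
  let H := Unitary.sylThree hE h2
  have hc1 := (Unitary.coord_one (hF := hE) (h2 := h2))
  let C' : Subgroup H := Subgroup.center H
  choose ψ hψA hψB using fun c : T =>
    Unitary.exists_mk (hF := hE) (h2 := h2) (a := 0) (b := j (cc ι e c)) (by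
      rw [zero_pow (Nat.succ_ne_zero _), hjq]; exact two _)
  have hext : ∀ g g' : H, Unitary.coordA g = Unitary.coordA g' → Unitary.coordB g = Unitary.coordB g' → g = g' :=
    fun g g' => Unitary.ext'
  obtain ⟨eqv⟩ := exists_mulEquiv_of_sq (fun x => z (p x)) (fun g : H => Unitary.coordA g)
    (fun a b => by
      show z (p (a * b)) = z (p a) + z (p b)
      simp only [z, D.p_mul, Prod.fst_add, Prod.snd_add, map_add]; ring)
    (fun a b => (Unitary.coord_mul a b).1)
    (hzbij.2.comp D.surj)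
    (fun a => by
      obtain ⟨b, hb⟩ := Unitary.exists_trace hE a
      obtain ⟨g, hg, -⟩ := Unitary.exists_mk (hF := hE) (h2 := h2) hb
      exact ⟨g, hg⟩)
    C C'
    (fun x => by
      rw [← D.ker]
      exact ⟨fun h => hzinj (h.trans (by simp [z])), fun h => by simp [z, h]⟩)
    (fun g => (Unitary.mem_center_iff g).symm) D.central le_rfl ψ
    (fun c _ => (Unitary.mem_center_iff _).2 (hψA c))
    (fun a ha b hb => hext _ _ (by rw [(Unitary.coord_mul _ _).1, hψA, hψA, hψA, add_zero])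
      (by rw [(Unitary.coord_mul _ _).2, hψB, hψB, hψB, hψA, hψA, mul_zero, add_zero, D.cc_mul ha hb, map_add]))
    (fun c hc h => D.cc_inj hc (hjinj (by rw [map_zero, ← hψB c, h, hc1.2])))
    (fun d hd => by
      have hA := (Unitary.mem_center_iff d).1 hd
      have hB : Unitary.coordB d ^ (2 ^ n) = Unitary.coordB d := (Unitary.fixed_iff_trace_zero (h2 := h2) _).1 (by
        rw [(Unitary.coe_eq d).2, hA, zero_pow (Nat.succ_ne_zero _)])
      obtain ⟨v, hv⟩ := hzbij.2 (Unitary.coordB d)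
      have hv1 : v.1 = 0 := by
        have h := hB
        rw [← hv] at h
        simp only [z, add_pow_char_pow, mul_pow, hjq, hrq] at h
        apply hjinj
        rw [map_zero]; linear_combination h
      obtain ⟨c, hc, hcv⟩ := D.cc_surj v.2
      refine ⟨c, hc, hext _ _ ((hψA c).trans hA.symm) ?_⟩
      rw [hψB, hcv, ← hv]; simp [z, hv1])
    D.sq_mem
    (fun x h hxh => by
      have hxh' : Unitary.coordA h = z (p x) := hxh.symm
      refine hext _ _ ?_ ?_
      · rw [hψA, (Unitary.coord_sq h).1]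
      · rw [hψB, (Unitary.coord_sq h).2, hxh', D.cc_sq, pow_succ]
        simp only [z, map_add, map_mul, add_pow_char_pow, mul_pow, hjq, hrq]
        linear_combination -(j (p x).1 * j (p x).1) * hr + two (j k * (j (p x).1 * j (p x).1)) -
          two (r * (j (p x).1 * j (p x).2)))
  obtain ⟨S⟩ : Nonempty (Sylow 2 (Cfsg.PSU 3 (AdjoinRoot f) (2 ^ n))) := inferInstance
  obtain ⟨e'⟩ := Unitary.exists_equiv hn rfl hE h2 S
  exact ⟨S, ⟨eqv.trans e'⟩⟩

end Cfsg.Agent.SingerInvol
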