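import Cfsg.Agent.Lib.SingerInvol.Setup

/-!
# The quotient by the center

* `Setup.exists_quotient`: the induced situation on the quotient by the center, with a coordinate of its
  fixed-point subgroup.
* `Setup.preimage_comm`: the preimage of that subgroup is abelian.
-/

set_option autoImplicit false
set_option linter.unusedSectionVars false

open scoped commutatorElement

namespace Cfsg.Agent.SingerInvol

variable {T : Type*} [Group T]

theorem comm_mul_left_of_central {a b c : T} (h : ⁅b, c⁆ ∈ Subgroup.center T) :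
    ⁅a * b, c⁆ = ⁅a, c⁆ * ⁅b, c⁆ := by
  have h1 := Subgroup.mem_center_iff.1 h a
  calc ⁅a * b, c⁆ = a * ⁅b, c⁆ * (c * a⁻¹ * c⁻¹) := by simp only [commutatorElement_def]; group
    _ = ⁅b, c⁆ * a * (c * a⁻¹ * c⁻¹) := by rw [h1]
    _ = ⁅b, c⁆ * ⁅a, c⁆ := by simp only [commutatorElement_def]; group
    _ = _ := (Subgroup.mem_center_iff.1 h _).symm

theorem comm_mul_right_of_central {a b c : T} (h : ⁅a, c⁆ ∈ Subgroup.center T) :
    ⁅a, b * c⁆ = ⁅a, b⁆ * ⁅a, c⁆ := by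
  calc ⁅a, b * c⁆ = a * b * a⁻¹ * ⁅a, c⁆ * b⁻¹ := by simp only [commutatorElement_def]; group
    _ = a * b * a⁻¹ * b⁻¹ * ⁅a, c⁆ := by
        rw [mul_assoc _ ⁅a, c⁆, ← Subgroup.mem_center_iff.1 h b⁻¹]; group
    _ = _ := by simp only [commutatorElement_def]

theorem comm_left_eq_one {z : T} (hz : z ∈ Subgroup.center T) (x : T) : ⁅z, x⁆ = 1 :=
  commutatorElement_eq_one_iff_mul_comm.2 (Subgroup.mem_center_iff.1 hz x).symm

theorem comm_right_eq_one {z : T} (hz : z ∈ Subgroup.center T) (x : T) : ⁅x, z⁆ = 1 :=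
  commutatorElement_eq_one_iff_mul_comm.2 (Subgroup.mem_center_iff.1 hz x)

/-- Commutators are unchanged by central factors. -/
theorem comm_congr {a a' b b' : T} (ha : a⁻¹ * a' ∈ Subgroup.center T) (hb : b⁻¹ * b' ∈ Subgroup.center T) :
    ⁅a', b'⁆ = ⁅a, b⁆ := by
  calc ⁅a', b'⁆ = ⁅a * (a⁻¹ * a'), b * (b⁻¹ * b')⁆ := by rw [mul_inv_cancel_left, mul_inv_cancel_left]
    _ = ⁅a, b * (b⁻¹ * b')⁆ := by
        rw [comm_mul_left_of_central (by rw [comm_left_eq_one ha]; exact one_mem _), comm_left_eq_one ha, mul_one]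
    _ = ⁅a, b⁆ := by
        rw [comm_mul_right_of_central (by rw [comm_right_eq_one hb]; exact one_mem _), comm_right_eq_one hb, mul_one]

/-- A commutator of elements fixed modulo the center is fixed. -/
theorem aut_comm_fixed (α : MulAut T) {u v : T} (hu : u⁻¹ * α u ∈ Subgroup.center T)
    (hv : v⁻¹ * α v ∈ Subgroup.center T) : α ⁅u, v⁆ = ⁅u, v⁆ := by
  rw [map_commutatorElement, comm_congr hu hv]

theorem fix_mod_center [Finite T] (φ : MulAut T) (h : ∀ z ∈ Subgroup.center T, φ z = z → z = 1)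
    (h' : ∀ x, φ x = x → x = 1) {x : T} (hx : x⁻¹ * φ x ∈ Subgroup.center T) : x ∈ Subgroup.center T := by
  have hmem : ∀ y ∈ Subgroup.center T, y⁻¹ * φ y ∈ Subgroup.center T := by
    intro y hy
    refine mul_mem (inv_mem hy) ?_
    rw [Subgroup.mem_center_iff] at hy ⊢
    intro g
    obtain ⟨g, rfl⟩ := φ.surjective g
    rw [← map_mul, ← map_mul, hy]
  let f : Subgroup.center T → Subgroup.center T := fun y => ⟨(y : T)⁻¹ * φ y, hmem y y.2⟩
  have hinj : Function.Injective f := by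
    intro a b hab
    have h1 : (a : T)⁻¹ * φ a = (b : T)⁻¹ * φ b := congrArg Subtype.val hab
    have hc := Subgroup.mem_center_iff.1 (inv_mem a.2)
    have e : φ ((b : T) * (a : T)⁻¹) = (b : T) * (a : T)⁻¹ := by
      rw [map_mul, map_inv, show φ (a : T) = a * ((b : T)⁻¹ * φ b) by rw [← h1, mul_inv_cancel_left]]
      group
    exact Subtype.ext (mul_inv_eq_one.1 (h _ (mul_mem b.2 (inv_mem a.2)) e)).symm
  obtain ⟨y, hy⟩ := Finite.injective_iff_surjective.1 hinj ⟨_, hx⟩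
  have hy' : (y : T)⁻¹ * φ y = x⁻¹ * φ x := congrArg Subtype.val hy
  have e : φ (x * (y : T)⁻¹) = x * (y : T)⁻¹ := by
    have hφy : φ (y : T) = y * (x⁻¹ * φ x) := by rw [← hy', mul_inv_cancel_left]
    rw [map_mul, map_inv, hφy]
    group
  rw [mul_inv_eq_one.1 (h' _ e)]
  exact y.2

namespace Setup

variable [Finite T] {n : ℕ} {α ρ : MulAut T} {C : Subgroup T} (S : Setup n α ρ C)
variable {F : Type*} [Field F] [Fintype F] [CharP F 2] {ι : T → F} {ω : F}
include S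

theorem exists_center_exp : ∃ k, 1 ≤ k ∧ (∀ z ∈ Subgroup.center T, z ^ 2 ^ k = 1) ∧
    ∃ z ∈ Subgroup.center T, z ^ 2 ^ (k - 1) ≠ 1 := by
  classical
  have hex : ∃ k, ∀ z ∈ Subgroup.center T, z ^ 2 ^ k = 1 := by
    obtain ⟨k, hk⟩ := IsPGroup.iff_card.mp S.pgroup
    exact ⟨k, fun z _ => hk ▸ pow_card_eq_one'⟩
  obtain ⟨c, hc, hc1⟩ := S.exists_ne_one_C
  have h1 : 1 ≤ Nat.find hex := by
    by_contra h
    have := Nat.find_spec hex c (S.central hc)
    rw [show Nat.find hex = 0 by omega] at this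
    exact hc1 (by simpa using this)
  refine ⟨Nat.find hex, h1, Nat.find_spec hex, ?_⟩
  have := Nat.find_min hex (m := Nat.find hex - 1) (by omega)
  push Not at this
  exact this

/-- The induced situation on the quotient by the center. -/
theorem exists_quotient (hI : Coord ρ C ι ω) (hna : ¬ ∀ a b : T, a * b = b * a) :
    ∃ (αq ρq : MulAut (T ⧸ Subgroup.center T)) (U : Subgroup (T ⧸ Subgroup.center T)) (κ : T → F),
      Setup n αq ρq U ∧
      (∀ x : T, αq (x : T ⧸ Subgroup.center T) = ((α x : T) : T ⧸ Subgroup.center T)) ∧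
      (∀ x : T, ρq (x : T ⧸ Subgroup.center T) = ((ρ x : T) : T ⧸ Subgroup.center T)) ∧
      (∀ z ∈ Subgroup.center T, α z = z⁻¹) ∧
      (∀ a ∈ U.comap (QuotientGroup.mk' _), ∀ b ∈ U.comap (QuotientGroup.mk' _), κ (a * b) = κ a + κ b) ∧
      (∀ a ∈ U.comap (QuotientGroup.mk' _), κ (ρ a) = ω * κ a) ∧
      (∀ x : F, ∃ a ∈ U.comap (QuotientGroup.mk' _), κ a = x) ∧
      (∀ a ∈ U.comap (QuotientGroup.mk' _), κ a = 0 ↔ a ∈ Subgroup.center T) := by
  classical
  haveI : Fact (Nat.Prime 2) := ⟨Nat.prime_two⟩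
  set Z := Subgroup.center T with hZ
  have hmap : ∀ φ : MulAut T, Z.map (φ : T →* T) = Z := fun φ =>
    Subgroup.characteristic_iff_map_eq.1 inferInstance φ
  let αq : MulAut (T ⧸ Z) := QuotientGroup.congr Z Z α (hmap α)
  let ρq : MulAut (T ⧸ Z) := QuotientGroup.congr Z Z ρ (hmap ρ)
  have hαq : ∀ x : T, αq (x : T ⧸ Z) = ((α x : T) : T ⧸ Z) := fun x => rfl
  have hρq : ∀ x : T, ρq (x : T ⧸ Z) = ((ρ x : T) : T ⧸ Z) := fun x => rfl
  have hρpow : ∀ (j : ℕ) (x : T), (ρq ^ j) (x : T ⧸ Z) = (((ρ ^ j) x : T) : T ⧸ Z) := by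
    intro j
    induction j with
    | zero => intro x; rfl
    | succ j ih => intro x; rw [pow_succ', pow_succ', MulAut.mul_apply, ih, hρq]; rfl
  have hQp : IsPGroup 2 (T ⧸ Z) := S.pgroup.to_quotient Z
  have hsq : ∀ q, αq (αq q) = q := by
    intro q; obtain ⟨x, rfl⟩ := QuotientGroup.mk_surjective q; rw [hαq, hαq, S.sq_α]
  have hord : ρq ^ (2 ^ n - 1) = 1 := by
    refine MulEquiv.ext fun q => ?_
    obtain ⟨x, rfl⟩ := QuotientGroup.mk_surjective q
    rw [hρpow, S.order]; rfl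
  have hcomm : ∀ q, αq (ρq q) = ρq (αq q) := by
    intro q; obtain ⟨x, rfl⟩ := QuotientGroup.mk_surjective q
    rw [hρq, hαq, hαq, hρq, S.comm]
  have hreg : ∀ k : ℕ, ¬ (2 ^ n - 1) ∣ k → ∀ q, (ρq ^ k) q = q → q = 1 := by
    intro k hk q hq
    obtain ⟨x, rfl⟩ := QuotientGroup.mk_surjective q
    rw [hρpow] at hq
    rw [QuotientGroup.eq_one_iff]
    exact fix_mod_center (ρ ^ k) (fun z _ => S.regular k hk z) (S.regular k hk) (QuotientGroup.eq.1 hq.symm)
  let U : Subgroup (T ⧸ Z) := MonoidHom.eqLocus (αq : T ⧸ Z →* T ⧸ Z) (MonoidHom.id _)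
  have hUmem : ∀ q, q ∈ U ↔ αq q = q := fun q => Iff.rfl
  let P := U.comap (QuotientGroup.mk' Z)
  have hδ : ∀ x ∈ P, x⁻¹ * α x ∈ Z := fun x hx => QuotientGroup.eq.1 ((hUmem _).1 hx).symm
  let δ : P →* Z := MonoidHom.mk' (fun x => ⟨(x : T)⁻¹ * α x, hδ x x.2⟩) fun x y => Subtype.ext (by
    show ((x : T) * y)⁻¹ * α ((x : T) * y) = (x : T)⁻¹ * α x * ((y : T)⁻¹ * α y)
    have h := Subgroup.mem_center_iff.1 (hδ x x.2) (y : T)⁻¹
    rw [map_mul, ← mul_assoc ((x : T)⁻¹ * α x), ← h]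
    group)
  have hker : Nat.card δ.ker ≤ 2 ^ n := S.card_C ▸ Nat.card_le_card_of_injective
    (fun y => (⟨y.1.1, (S.fix_α _).1 (inv_mul_eq_one.1 (congrArg Subtype.val y.2)).symm⟩ : C))
    fun a b e => Subtype.ext (Subtype.ext (congrArg Subtype.val e :))
  have hPZ : Nat.card P = Nat.card U * Nat.card Z := by
    have h1 := P.card_mul_index
    rw [Subgroup.index_comap_of_surjective _ (QuotientGroup.mk'_surjective Z),
      Z.card_eq_card_quotient_mul_card_subgroup, ← U.card_mul_index, mul_right_comm] at h1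
    exact Nat.eq_of_mul_eq_mul_right (Nat.pos_of_ne_zero Subgroup.index_ne_zero_of_finite) h1
  have h1 := δ.ker.card_mul_index
  rw [Subgroup.index_ker, hPZ] at h1
  have hrange : Nat.card δ.range ≤ Nat.card Z := Subgroup.card_le_card_group _
  have hZpos : 0 < Nat.card Z := Nat.card_pos
  have hUle : Nat.card U ≤ 2 ^ n := by
    refine Nat.le_of_mul_le_mul_right ?_ hZpos
    rw [← h1]
    exact Nat.mul_le_mul hker hrange
  have hUr : ∀ q ∈ U, ρq q ∈ U := fun q hq => by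
    rw [hUmem] at hq ⊢; rw [hcomm, hq]
  have hU3 := card_sub_one_dvd ρq (by have := S.four_le; omega) hord hreg U hUr
  have hU1 : Nat.card U ≠ 1 := fun e => by
    have hbot : U = ⊥ := Subgroup.eq_bot_of_card_eq _ e
    have htop := FourFixed.eq_bot_of_noFix (⊤ : Subgroup (T ⧸ Z)) (hQp.to_subgroup _)
      (fun q => ⟨αq q, trivial⟩) (fun q => Subtype.ext (hsq q)) (Subtype.ext (map_one αq))
      fun q hq => Subtype.ext (by
        have : (q : T ⧸ Z) ∈ U := (hUmem _).2 (congrArg Subtype.val hq)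
        rwa [hbot, Subgroup.mem_bot] at this)
    refine hna fun a b => ?_
    have ha : a ∈ Z := (QuotientGroup.eq_one_iff a).1 (Subgroup.mem_bot.1 (htop ▸ Subgroup.mem_top _))
    exact (Subgroup.mem_center_iff.1 ha b).symm
  have hUcard : Nat.card U = 2 ^ n := by
    have : 0 < Nat.card U := Nat.card_pos
    have := Nat.le_of_dvd (by omega) hU3
    omega
  have htop : δ.range = ⊤ := by
    refine Subgroup.eq_top_of_le_card _ (Nat.le_of_mul_le_mul_left ?_ (Nat.two_pow_pos n))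
    calc 2 ^ n * Nat.card Z = Nat.card δ.ker * Nat.card δ.range := by rw [h1, hUcard]
      _ ≤ 2 ^ n * Nat.card δ.range := Nat.mul_le_mul_right _ hker
  have hδsurj : ∀ z ∈ Z, ∃ x : P, (x : T)⁻¹ * α x = z := fun z hz => by
    obtain ⟨x, hx⟩ : (⟨z, hz⟩ : Z) ∈ δ.range := htop ▸ Subgroup.mem_top _
    exact ⟨x, congrArg Subtype.val hx⟩
  have hinv : ∀ z ∈ Z, α z = z⁻¹ := by
    intro z hz
    obtain ⟨x, hx'⟩ := hδsurj z hz
    rw [← hx', map_mul, map_inv, S.sq_α, mul_inv_rev, inv_inv]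
  -- the coordinate
  obtain ⟨k, hk1, hkexp, z₀, hz₀, hz₀'⟩ := S.exists_center_exp
  let t : T → T := fun u => (u⁻¹ * α u) ^ 2 ^ (k - 1)
  have htC : ∀ u ∈ P, t u ∈ C := fun u hu =>
    S.invol_of_inverted (hinv _ (pow_mem (hδ u hu) _)) (by
      rw [← pow_add, ← two_mul, ← pow_succ', show k - 1 + 1 = k by omega, hkexp _ (hδ u hu)])
  have htmul : ∀ a ∈ P, ∀ b ∈ P, t (a * b) = t a * t b := by
    intro a ha b hb
    have h := congrArg Subtype.val (map_mul δ ⟨a, ha⟩ ⟨b, hb⟩)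
    change (a * b)⁻¹ * α (a * b) = a⁻¹ * α a * (b⁻¹ * α b) at h
    show ((a * b)⁻¹ * α (a * b)) ^ _ = _
    rw [h]
    exact Commute.mul_pow (Subgroup.mem_center_iff.1 (hδ b hb) _) _
  have htρ : ∀ a, t (ρ a) = ρ (t a) := fun a => by
    show ((ρ a)⁻¹ * α (ρ a)) ^ _ = ρ (_ ^ _)
    rw [map_pow, S.ρ_delta]
  have hPr : ∀ a ∈ P, ρ a ∈ P := fun a ha => by
    show ((ρ a : T) : T ⧸ Z) ∈ U
    rw [← hρq]; exact hUr _ ha
  have hsurjC : ∀ c ∈ C, ∃ a ∈ P, t a = c := by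
    obtain ⟨x, hx⟩ := hδsurj z₀ hz₀
    let tP : P →* T := MonoidHom.mk' (fun a => t a) fun a b => htmul a a.2 b b.2
    have hle : C ≤ tP.range := by
      refine S.C_le_of_mem (a := t x) ?_ (htC x x.2) ?_ ⟨x, rfl⟩
      · rintro _ ⟨a, rfl⟩
        exact ⟨⟨ρ a, hPr a a.2⟩, htρ a⟩
      · show ((x : T)⁻¹ * α x) ^ _ ≠ 1
        rw [hx]; exact hz₀'
    intro c hc
    obtain ⟨a, ha⟩ := hle hc
    exact ⟨a, a.2, ha⟩
  have htZ : ∀ z ∈ Z, t z = 1 := fun z hz => by
    show (z⁻¹ * α z) ^ _ = 1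
    rw [hinv z hz, ← pow_two, ← pow_mul, ← pow_succ', show k - 1 + 1 = k by omega]
    exact hkexp _ (inv_mem hz)
  have hZP : Z ≤ P := fun z hz => by
    show ((z : T) : T ⧸ Z) ∈ U
    rw [(QuotientGroup.eq_one_iff z).2 hz]; exact one_mem U
  have htker : ∀ a ∈ P, t a = 1 → a ∈ Z := by
    let tP : P →* C := MonoidHom.mk' (fun a => ⟨t a, htC a a.2⟩) fun a b => Subtype.ext (htmul a a.2 b b.2)
    have hs : Function.Surjective tP := fun c => by
      obtain ⟨a, ha, hac⟩ := hsurjC c c.2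
      exact ⟨⟨a, ha⟩, Subtype.ext hac⟩
    have h2 := tP.ker.card_mul_index
    rw [Subgroup.index_ker, MonoidHom.range_eq_top.2 hs, Subgroup.card_top, S.card_C, hPZ, hUcard,
      mul_comm] at h2
    have h3 : Nat.card tP.ker = Nat.card Z := Nat.eq_of_mul_eq_mul_left (Nat.two_pow_pos n) h2
    have h4 : Z.subgroupOf P = tP.ker := Subgroup.eq_of_le_of_card_ge
      (fun a ha => Subtype.ext (htZ a.1 ha))
      (by rw [h3, Nat.card_congr (Subgroup.subgroupOfEquivOfLe hZP).toEquiv])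
    intro a ha h
    have h5 : (⟨a, ha⟩ : P) ∈ tP.ker := Subtype.ext h
    rw [← h4] at h5
    exact h5
  have hUsq : ∀ q ∈ U, q * q = 1 := by
    intro q hq
    obtain ⟨a, rfl⟩ := QuotientGroup.mk_surjective q
    rw [← QuotientGroup.mk_mul, QuotientGroup.eq_one_iff]
    refine htker _ (P.mul_mem hq hq) ?_
    rw [htmul a hq a hq, S.sq_C _ (htC a hq)]
  refine ⟨αq, ρq, U, fun a => ι (t a), ⟨S.two_le, hQp, hsq, hord, hcomm, fun q => (hUmem q).symm, hUcard,
    hUsq, hreg, ?_⟩, hαq, hρq, hinv, ?_, ?_, ?_, ?_⟩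
  · intro q hq q' hq' hq1 hq'1
    obtain ⟨a, rfl⟩ := QuotientGroup.mk_surjective q
    obtain ⟨b, rfl⟩ := QuotientGroup.mk_surjective q'
    have hta : t a ≠ 1 := fun e => hq1 ((QuotientGroup.eq_one_iff a).2 (htker a hq e))
    have htb : t b ≠ 1 := fun e => hq'1 ((QuotientGroup.eq_one_iff b).2 (htker b hq' e))
    obtain ⟨j, hj⟩ := S.trans _ (htC a hq) _ (htC b hq') hta htb
    refine ⟨j, ?_⟩
    rw [hρpow, QuotientGroup.eq]
    have hpa : (ρ ^ j) a ∈ P := pow_mem_inv ρ hPr j a hq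
    have htpow : t ((ρ ^ j) a) = (ρ ^ j) (t a) := by
      clear hj hpa
      induction j with
      | zero => rfl
      | succ j ih => rw [pow_succ', MulAut.mul_apply, htρ, ih]; rfl
    refine htker _ (P.mul_mem (P.inv_mem hpa) hq') ?_
    have h := htmul _ (P.inv_mem hpa) _ hpa
    rw [inv_mul_cancel, htpow, hj, htZ 1 (one_mem Z)] at h
    rw [htmul _ (P.inv_mem hpa) _ hq', ← h]
  · intro a ha b hb
    show ι (t (a * b)) = _
    rw [htmul a ha b hb]
    exact hI.mul _ (htC a ha) _ (htC b hb)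
  · intro a ha
    show ι (t (ρ a)) = _
    rw [htρ]
    exact hI.equiv _ (htC a ha)
  · intro x
    obtain ⟨c, hc, rfl⟩ := hI.surj x
    obtain ⟨a, ha, hac⟩ := hsurjC c hc
    exact ⟨a, ha, by show ι (t a) = _; rw [hac]⟩
  · intro a ha
    refine ⟨fun h => htker a ha (hI.inj _ (htC a ha) h), fun h => ?_⟩
    show ι (t a) = 0
    rw [htZ a h, hI.map_one]

/-- The preimage of the fixed points of the quotient by the center is abelian. -/
theorem preimage_comm (hI : Coord ρ C ι ω) {U : Subgroup (T ⧸ Subgroup.center T)} {αq ρq : MulAut (T ⧸ Subgroup.center T)}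
    (SQ : Setup n αq ρq U)
    (hαq : ∀ x : T, αq (x : T ⧸ Subgroup.center T) = ((α x : T) : T ⧸ Subgroup.center T))
    (hρq : ∀ x : T, ρq (x : T ⧸ Subgroup.center T) = ((ρ x : T) : T ⧸ Subgroup.center T))
    {κ : T → F}
    (hκ : ∀ a ∈ U.comap (QuotientGroup.mk' _), ∀ b ∈ U.comap (QuotientGroup.mk' _), κ (a * b) = κ a + κ b)
    (hκρ : ∀ a ∈ U.comap (QuotientGroup.mk' _), κ (ρ a) = ω * κ a)
    (hκs : ∀ x : F, ∃ a ∈ U.comap (QuotientGroup.mk' _), κ a = x)
    (hκ0 : ∀ a ∈ U.comap (QuotientGroup.mk' _), κ a = 0 ↔ a ∈ Subgroup.center T) :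
    ∀ a ∈ U.comap (QuotientGroup.mk' _), ∀ b ∈ U.comap (QuotientGroup.mk' _), a * b = b * a := by
  set P := U.comap (QuotientGroup.mk' (Subgroup.center T))
  have hδ : ∀ x ∈ P, x⁻¹ * α x ∈ Subgroup.center T := fun x hx =>
    QuotientGroup.eq.1 (by rw [← hαq]; exact ((SQ.fix_α _).2 hx).symm)
  have hC : ∀ a ∈ P, ∀ b ∈ P, ⁅a, b⁆ ∈ C := fun a ha b hb =>
    (S.fix_α _).1 (aut_comm_fixed α (hδ a ha) (hδ b hb))
  have hPr : ∀ a ∈ P, ρ a ∈ P := fun a ha => by
    show ((ρ a : T) : T ⧸ Subgroup.center T) ∈ U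
    rw [← hρq]; exact SQ.r_mem_C ha
  have h := pairing_self (r := ⇑ρ) hPr hκ hκρ hκs hI.gen (fun a b => ι ⁅a, b⁆)
    (fun a ha a' ha' b hb => by
      rw [comm_mul_left_of_central (S.central (hC a' ha' b hb))]
      exact hI.mul _ (hC a ha b hb) _ (hC a' ha' b hb))
    (fun a ha b hb b' hb' => by
      rw [comm_mul_right_of_central (S.central (hC a ha b' hb'))]
      exact hI.mul _ (hC a ha b hb) _ (hC a ha b' hb'))
    (fun a ha b hb => by
      show ι ⁅ρ a, ρ b⁆ = ω * ι ⁅a, b⁆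
      rw [← map_commutatorElement, hI.equiv _ (hC a ha b hb)])
    (fun a _ => by show ι ⁅a, a⁆ = 0; rw [commutatorElement_self, hI.map_one])
    (fun a ha h0 b _ => by
      have := (hκ0 a ha).1 h0
      exact ⟨by show ι ⁅a, b⁆ = 0; rw [comm_left_eq_one this, hI.map_one],
        by show ι ⁅b, a⁆ = 0; rw [comm_right_eq_one this, hI.map_one]⟩)
  exact fun a ha b hb => commutatorElement_eq_one_iff_mul_comm.1 (hI.inj _ (hC a ha b hb) (h a ha b hb))

end Setup

end Cfsg.Agent.SingerInvol
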