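import Cfsg.Agent.Lib.SingerInvol.Field
import Cfsg.Agent.Lib.FourFixed.Abelian

/-!
# An involutory automorphism whose fixed points carry a commuting Singer cycle

`Setup n α ρ C`: `α` fixes exactly the elements of the subgroup `C` of order `2 ^ n` and exponent two,
`ρ` commutes with `α`, has exponent `2 ^ n - 1`, is transitive on `C` minus the identity and acts freely.

* `Setup.central`, `Setup.C_le`, `Setup.exists_coord`, `card_sub_one_dvd`.
* `Setup.abelian_cases`, `Setup.card_le_pow`, `Setup.pow_le_card`.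
-/

set_option autoImplicit false
set_option linter.unusedSectionVars false

open scoped commutatorElement

namespace Cfsg.Agent.SingerInvol

variable {T : Type*} [Group T]

theorem pow_mem_inv (ρ : MulAut T) {K : Subgroup T} (hK : ∀ x ∈ K, ρ x ∈ K) (j : ℕ) :
    ∀ x ∈ K, (ρ ^ j) x ∈ K := by
  induction j with
  | zero => exact fun x hx => hx
  | succ j ih => intro x hx; rw [pow_succ', MulAut.mul_apply]; exact hK _ (ih x hx)

/-- An invariant subgroup of a freely acting automorphism of exponent `m` has order one modulo `m`. -/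
theorem card_sub_one_dvd [Finite T] (ρ : MulAut T) {m : ℕ} (hm : 0 < m) (hord : ρ ^ m = 1)
    (hreg : ∀ k : ℕ, ¬ m ∣ k → ∀ x : T, (ρ ^ k) x = x → x = 1) (K : Subgroup T) (hK : ∀ x ∈ K, ρ x ∈ K) :
    m ∣ Nat.card K - 1 := by
  classical
  haveI : NeZero m := ⟨hm.ne'⟩
  haveI := Fintype.ofFinite K
  by_cases hbot : K = ⊥
  · rw [hbot, Subgroup.card_bot]; simp
  obtain ⟨x₀, -, hx₀⟩ := (Subgroup.bot_or_exists_ne_one K).resolve_left hbot
  have horder : orderOf ρ = m := by
    refine Nat.dvd_antisymm (orderOf_dvd_of_pow_eq_one hord) ?_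
    by_contra h
    exact hx₀ (hreg _ h x₀ (by rw [pow_orderOf_eq_one]; rfl))
  let X := {x : T // x ∈ K ∧ x ≠ 1}
  have hmem : ∀ g ∈ Subgroup.zpowers ρ, ∀ x : X, g x.1 ∈ K ∧ g x.1 ≠ 1 := by
    intro g hg x
    haveI : Finite (MulAut T) := Finite.of_injective (fun f : MulAut T => (f : T → T)) DFunLike.coe_injective
    obtain ⟨j, rfl⟩ := mem_powers_iff_mem_zpowers.2 hg
    exact ⟨pow_mem_inv ρ hK j _ x.2.1, fun e => x.2.2 ((MulEquiv.map_eq_one_iff _).1 e)⟩
  letI : MulAction (Subgroup.zpowers ρ) X :=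
    { smul := fun g x => ⟨(g : MulAut T) x.1, hmem g g.2 x⟩
      one_smul := fun x => Subtype.ext rfl
      mul_smul := fun g h x => Subtype.ext rfl }
  have hfree : ∀ x : X, MulAction.stabilizer (Subgroup.zpowers ρ) x = ⊥ := by
    intro x
    rw [Subgroup.eq_bot_iff_forall]
    rintro ⟨g, hg⟩ hgx
    haveI : Finite (MulAut T) := Finite.of_injective (fun f : MulAut T => (f : T → T)) DFunLike.coe_injective
    obtain ⟨j, rfl⟩ := mem_powers_iff_mem_zpowers.2 hg
    have hdvd : m ∣ j := by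
      by_contra h
      exact x.2.2 (hreg j h x.1 (congrArg Subtype.val hgx))
    obtain ⟨i, rfl⟩ := hdvd
    exact Subtype.ext (show ρ ^ (m * i) = 1 by rw [pow_mul, hord, one_pow])
  have hX : Nat.card X = Nat.card K - 1 := by
    rw [← Nat.card_congr (Equiv.subtypeSubtypeEquivSubtypeInter (fun x : T => x ∈ K) (fun x => x ≠ 1))]
    rw [Nat.card_eq_fintype_card, Nat.card_eq_fintype_card, Fintype.card_subtype_compl]
    congr 1
    rw [Fintype.card_eq_one_iff]
    exact ⟨⟨⟨1, one_mem K⟩, rfl⟩, fun y => Subtype.ext (Subtype.ext y.2)⟩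
  rw [← hX, Nat.card_congr (MulAction.selfEquivOrbitsQuotientProd hfree), Nat.card_prod,
    Nat.card_zpowers, horder]
  exact dvd_mul_left _ _

/-- The situation. -/
structure Setup (n : ℕ) (α ρ : MulAut T) (C : Subgroup T) : Prop where
  two_le : 2 ≤ n
  pgroup : IsPGroup 2 T
  sq_α : ∀ x, α (α x) = x
  order : ρ ^ (2 ^ n - 1) = 1
  comm : ∀ x, α (ρ x) = ρ (α x)
  fix_α : ∀ x, α x = x ↔ x ∈ C
  card_C : Nat.card C = 2 ^ n
  sq_C : ∀ c ∈ C, c * c = 1
  regular : ∀ k : ℕ, ¬ (2 ^ n - 1) ∣ k → ∀ x, (ρ ^ k) x = x → x = 1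
  trans : ∀ x ∈ C, ∀ y ∈ C, x ≠ 1 → y ≠ 1 → ∃ k : ℕ, (ρ ^ k) x = y

namespace Setup

variable [Finite T] {n : ℕ} {α ρ : MulAut T} {C : Subgroup T} (S : Setup n α ρ C)
include S

theorem four_le : 4 ≤ 2 ^ n :=
  le_trans (le_of_eq (by norm_num : (4 : ℕ) = 2 ^ 2)) (Nat.pow_le_pow_right two_pos S.two_le)

theorem r_mem_C {x : T} (hx : x ∈ C) : ρ x ∈ C := by
  rw [← S.fix_α, S.comm, (S.fix_α x).mpr hx]

theorem C_le_of_mem {K : Subgroup T} (hK : ∀ x ∈ K, ρ x ∈ K) {a : T} (ha : a ∈ C) (ha1 : a ≠ 1)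
    (haK : a ∈ K) : C ≤ K := by
  intro b hb
  by_cases hb1 : b = 1
  · rw [hb1]; exact one_mem K
  obtain ⟨j, rfl⟩ := S.trans a ha b hb ha1 hb1
  exact pow_mem_inv ρ hK j a haK

theorem C_le {K : Subgroup T} (hα : ∀ x ∈ K, α x ∈ K) (hK : ∀ x ∈ K, ρ x ∈ K) (hne : K ≠ ⊥) : C ≤ K := by
  by_contra h
  refine hne (FourFixed.eq_bot_of_noFix K (S.pgroup.to_subgroup K) (fun x => ⟨α x, hα x x.2⟩)
    (fun x => Subtype.ext (S.sq_α x)) (Subtype.ext (map_one α)) fun x hx => ?_)
  by_contra hx1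
  exact h (S.C_le_of_mem hK ((S.fix_α _).1 (congrArg Subtype.val hx)) (fun e => hx1 (Subtype.ext e)) x.2)

theorem eq_C_or_bot {K : Subgroup T} (hKC : K ≤ C) (hK : ∀ x ∈ K, ρ x ∈ K) : K = ⊥ ∨ K = C := by
  rcases Subgroup.bot_or_exists_ne_one K with h | ⟨a, ha, ha1⟩
  · exact Or.inl h
  · exact Or.inr (le_antisymm hKC (S.C_le_of_mem hK (hKC ha) ha1 ha))

theorem exists_ne_one_C : ∃ c ∈ C, c ≠ 1 :=
  (Subgroup.bot_or_exists_ne_one C).resolve_left fun e => by
    have := S.card_C; rw [e, Subgroup.card_bot] at this; have := S.four_le; omega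

theorem aut_center (φ : MulAut T) {z : T} (hz : z ∈ Subgroup.center T) : φ z ∈ Subgroup.center T := by
  rw [Subgroup.mem_center_iff] at hz ⊢
  intro g
  obtain ⟨g, rfl⟩ := φ.surjective g
  rw [← map_mul, ← map_mul, hz]

theorem central : C ≤ Subgroup.center T := by
  haveI : Fact (Nat.Prime 2) := ⟨Nat.prime_two⟩
  refine S.C_le (fun x => S.aut_center α) (fun x => S.aut_center ρ) fun e => ?_
  obtain ⟨c, -, hc1⟩ := S.exists_ne_one_C
  haveI : Nontrivial T := ⟨⟨c, 1, hc1⟩⟩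
  haveI : Nontrivial (Subgroup.center T) := S.pgroup.center_nontrivial
  exact (Subgroup.nontrivial_iff_ne_bot _).1 inferInstance e

theorem invol_of_inverted {x : T} (h : α x = x⁻¹) (h2 : x * x = 1) : x ∈ C := by
  rw [← S.fix_α, h, inv_eq_of_mul_eq_one_right h2]

theorem ρ_delta (x : T) : ρ (x⁻¹ * α x) = (ρ x)⁻¹ * α (ρ x) := by
  rw [map_mul, map_inv, S.comm]

/-- The coordinate of the fixed-point subgroup. -/
theorem exists_coord : ∃ (F : Type) (_ : Field F) (_ : Fintype F) (_ : CharP F 2) (ι : T → F) (ω : F),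
    Coord ρ C ι ω ∧ Nat.card F = 2 ^ n := by
  classical
  letI : CommGroup C :=
    { (inferInstance : Group C) with
      mul_comm := fun a b => Subtype.ext (Subgroup.mem_center_iff.1 (S.central b.2) a) }
  let E : AddMonoid.End (Additive C) := MonoidHom.toAdditive (MonoidHom.mk'
    (fun v : C => (⟨ρ v, S.r_mem_C v.2⟩ : C)) (fun a b => Subtype.ext (map_mul ρ (a : T) b)))
  have hEpow : ∀ (j : ℕ) (w : Additive C),
      ((Additive.toMul ((E ^ j) w) : C) : T) = (ρ ^ j) (Additive.toMul w : C) := by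
    intro j
    induction j with
    | zero => intro w; rfl
    | succ j ih => intro w; rw [pow_succ', pow_succ', MulAut.mul_apply, ← ih]; rfl
  obtain ⟨c, hc, hc1⟩ := S.exists_ne_one_C
  obtain ⟨F, iF, iFin, iChar, e, ω, hω0, he, hgen⟩ := SuzukiTwo.exists_field_model (W := Additive C)
    (fun w => Additive.toMul.injective (Subtype.ext (S.sq_C _ (Additive.toMul w).2)))
    E (fun a b h => Additive.toMul.injective (Subtype.ext
      (ρ.injective (congrArg (fun x => ((Additive.toMul x : C) : T)) h))))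
    (w₀ := Additive.ofMul (⟨c, hc⟩ : C))
    (fun h => hc1 (congrArg Subtype.val (congrArg Additive.toMul h)))
    (fun w hw => by
      obtain ⟨j, hj⟩ := S.trans c hc _ (Additive.toMul w).2 hc1
        (fun h => hw (Additive.toMul.injective (Subtype.ext h)))
      exact ⟨j, Additive.toMul.injective (Subtype.ext ((hEpow j _).trans hj))⟩)
  have hcard : Nat.card F = 2 ^ n := by
    rw [← Nat.card_congr e.toEquiv, Nat.card_congr Additive.toMul, S.card_C]
  refine ⟨F, iF, iFin, iChar, fun x => if h : x ∈ C then e (Additive.ofMul (⟨x, h⟩ : C)) else 0, ω,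
    ⟨?_, ?_, ?_, ?_, hgen, ?_⟩, hcard⟩
  · intro a ha b hb
    rw [dif_pos ha, dif_pos hb, dif_pos (mul_mem ha hb), ← map_add]
    rfl
  · intro a ha h
    rw [dif_pos ha] at h
    exact congrArg Subtype.val (congrArg Additive.toMul (e.map_eq_zero_iff.1 h))
  · intro x
    refine ⟨(Additive.toMul (e.symm x) : C), (Additive.toMul (e.symm x)).2, ?_⟩
    rw [dif_pos (Additive.toMul (e.symm x)).2]
    exact e.apply_symm_apply x
  · intro a ha
    rw [dif_pos ha, dif_pos (S.r_mem_C ha), ← he]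
    rfl
  · intro h
    have hall : ∀ x : F, x = 0 ∨ x = 1 := fun x => by
      by_cases hx : x = 0
      · exact Or.inl hx
      · obtain ⟨j, rfl⟩ := hgen x hx; exact Or.inr (by rw [h, one_pow])
    have hle : Fintype.card F ≤ 2 := by
      rw [← Finset.card_univ]
      exact (Finset.card_le_card (fun a _ => by rcases hall a with ha | ha <;> simp [ha])).trans
        (Finset.card_le_two (a := (0 : F)) (b := 1))
    rw [← Nat.card_eq_fintype_card, hcard] at hle
    have := S.four_le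
    omega

theorem card_sub_one (K : Subgroup T) (hK : ∀ x ∈ K, ρ x ∈ K) : 2 ^ n - 1 ∣ Nat.card K - 1 :=
  card_sub_one_dvd ρ (by have := S.four_le; omega) S.order S.regular K hK

theorem abelian_cases (hab : ∀ a b : T, a * b = b * a) :
    ((∀ x : T, x * x = 1) ∧ Nat.card T ≤ 2 ^ n * 2 ^ n) ∨ ∀ x : T, x * x = 1 → x ∈ C := by
  classical
  by_cases hex : ∀ x : T, x * x = 1 → x ∈ C
  · exact Or.inr hex
  left
  push Not at hex
  obtain ⟨x, hx2, hxW⟩ := hex
  letI : CommGroup T := { (inferInstance : Group T) with mul_comm := hab }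
  let E : Subgroup T := (powMonoidHom 2 : T →* T).ker
  have hE : ∀ y, y ∈ E ↔ y * y = 1 := fun y => by
    show y ^ 2 = 1 ↔ _
    rw [pow_two]
  let δ : T →* T := (MonoidHom.id T)⁻¹ * (α : T →* T)
  have hδval : ∀ y, δ y = y⁻¹ * α y := fun y => rfl
  have hδinv : ∀ y, α (δ y) = (δ y)⁻¹ := fun y => by
    rw [hδval, map_mul, map_inv, S.sq_α, mul_inv_rev, inv_inv, mul_comm]
  have hδ0 : ∀ y, δ y = 1 ↔ y ∈ C := fun y => by
    rw [hδval, inv_mul_eq_one, eq_comm, S.fix_α]
  have hδE : ∀ y ∈ E, δ y ∈ C := fun y hy =>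
    S.invol_of_inverted (hδinv y) (by rw [← map_mul, (hE y).1 hy, map_one])
  have hsurj : ∀ w ∈ C, ∃ e ∈ E, δ e = w := by
    intro w hw
    have hle : C ≤ E.map δ := by
      refine S.C_le_of_mem (a := δ x) ?_ (hδE x ((hE x).2 hx2)) (fun e => hxW ((hδ0 x).mp e))
        ⟨x, (hE x).2 hx2, rfl⟩
      rintro _ ⟨e, he, rfl⟩
      exact ⟨ρ e, (hE _).2 (by rw [← map_mul, (hE e).1 he, map_one]), (S.ρ_delta e).symm⟩
    obtain ⟨e, he, rfl⟩ := hle hw
    exact ⟨e, he, rfl⟩
  have hcardE : Nat.card E ≤ 2 ^ n * 2 ^ n := by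
    let δE : E →* C := MonoidHom.mk' (fun y => ⟨δ (y : T), hδE y y.2⟩) fun a b => Subtype.ext (map_mul δ (a : T) b)
    have h1 := δE.ker.card_mul_index
    have h2 : Nat.card δE.ker ≤ 2 ^ n := S.card_C ▸ Nat.card_le_card_of_injective
      (fun y => (⟨y.1.1, (hδ0 _).mp (congrArg Subtype.val y.2)⟩ : C))
      fun a b e => Subtype.ext (Subtype.ext (congrArg Subtype.val e :))
    have h3 : δE.ker.index ≤ 2 ^ n := by
      rw [Subgroup.index_ker, ← S.card_C]; exact Subgroup.card_le_card_group _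
    rw [← h1]
    exact Nat.mul_le_mul h2 h3
  have h4 : ∀ y : T, y * y * (y * y) = 1 → y * y = 1 := by
    intro y hy
    by_cases hyW : y * y ∈ C
    · have hd : δ y * δ y = 1 := by rw [← map_mul, hδ0]; exact hyW
      obtain ⟨e, he, hee⟩ := hsurj _ (S.invol_of_inverted (hδinv y) hd)
      have hC : y * e⁻¹ ∈ C := (hδ0 _).mp (by rw [map_mul, map_inv, hee, mul_inv_cancel])
      have hm := mul_mem ((hE _).2 (S.sq_C _ hC)) he
      rw [inv_mul_cancel_right] at hm
      exact (hE y).1 hm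
    · exfalso
      have hne : δ (y * y) ≠ 1 := fun e => hyW ((hδ0 _).mp e)
      have h2 : δ (δ y * (y * y)) = 1 := by
        rw [map_mul δ (δ y), hδval (δ y), hδinv y, ← mul_inv_rev, ← map_mul, inv_mul_cancel]
      have hm := mul_mem ((hE _).2 (S.sq_C _ ((hδ0 _).mp h2))) (E.inv_mem ((hE _).2 hy))
      rw [mul_inv_cancel_right] at hm
      exact hne (by rw [map_mul]; exact (hE _).1 hm)
  have hexp : ∀ y : T, y * y = 1 := by
    have key : ∀ k : ℕ, ∀ y : T, y ^ 2 ^ k = 1 → y * y = 1 := by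
      intro k
      induction k with
      | zero => intro y hy; rw [pow_zero, pow_one] at hy; rw [hy, one_mul]
      | succ k ih =>
        intro y hy
        exact h4 y (ih (y * y) (by rw [← pow_two, ← pow_mul, ← pow_succ', hy]))
    intro y
    obtain ⟨k, hk⟩ := S.pgroup y
    exact key k y hk
  refine ⟨hexp, le_trans (le_of_eq ?_) hcardE⟩
  rw [show E = ⊤ from eq_top_iff.mpr fun y _ => (hE y).2 (hexp y), Subgroup.card_top]

/-- A commutative subgroup with all involutions in `C` and exponent `2 ^ k` has order at most `2 ^ (n * k)`. -/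
theorem card_le_pow (k : ℕ) : ∀ (K : Subgroup T), (∀ a ∈ K, ∀ b ∈ K, a * b = b * a) →
    (∀ x ∈ K, x * x = 1 → x ∈ C) → (∀ x ∈ K, x ^ 2 ^ k = 1) → Nat.card K ≤ (2 ^ n) ^ k := by
  induction k with
  | zero =>
    intro K _ _ hK
    rw [(Subgroup.eq_bot_iff_forall K).mpr fun x hx => by simpa using hK x hx, Subgroup.card_bot]
    exact le_rfl
  | succ k ih =>
    intro K hab hom hK
    let sq : K →* T := MonoidHom.mk' (fun x => (x : T) ^ 2) fun a b => by
      show ((a : T) * b) ^ 2 = _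
      exact Commute.mul_pow (hab a a.2 b b.2) 2
    have h1 := sq.ker.card_mul_index
    have h2 : Nat.card sq.ker ≤ 2 ^ n := S.card_C ▸ Nat.card_le_card_of_injective
      (fun y => (⟨y.1.1, hom _ y.1.2 (by rw [← pow_two]; exact y.2)⟩ : C))
      fun a b e => Subtype.ext (Subtype.ext (congrArg Subtype.val e :))
    have hsub : ∀ z ∈ sq.range, z ∈ K := by rintro _ ⟨x, rfl⟩; exact pow_mem x.2 2
    have h3 : Nat.card sq.range ≤ (2 ^ n) ^ k := ih _ (fun a ha b hb => hab a (hsub a ha) b (hsub b hb))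
      (fun z hz => hom z (hsub z hz)) (by
        rintro _ ⟨x, rfl⟩
        show ((x : T) ^ 2) ^ 2 ^ k = 1
        rw [← pow_mul, ← pow_succ']; exact hK x x.2)
    rw [Subgroup.index_ker] at h1
    rw [← h1, pow_succ']
    exact Nat.mul_le_mul h2 h3

/-- An invariant commutative subgroup with all involutions in `C` and an element of order `2 ^ (k + 1)`
has order at least `2 ^ (n * (k + 1))`. -/
theorem pow_le_card (k : ℕ) : ∀ (K : Subgroup T), (∀ a ∈ K, ∀ b ∈ K, a * b = b * a) →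
    (∀ x ∈ K, x * x = 1 → x ∈ C) → (∀ x ∈ K, ρ x ∈ K) →
    (∃ x ∈ K, x ^ 2 ^ k ≠ 1) → (2 ^ n) ^ (k + 1) ≤ Nat.card K := by
  haveI : Fact (Nat.Prime 2) := ⟨Nat.prime_two⟩
  have hCK : ∀ K : Subgroup T, (∀ x ∈ K, x * x = 1 → x ∈ C) → (∀ x ∈ K, ρ x ∈ K) → (∃ x ∈ K, x ≠ 1) → C ≤ K := by
    rintro K hom hr ⟨x, hx, hx1⟩
    have hne : Nat.card K ≠ 1 := fun e => hx1 (by rwa [Subgroup.eq_bot_of_card_eq K e, Subgroup.mem_bot] at hx)
    obtain ⟨j, hj⟩ := IsPGroup.iff_card.1 (S.pgroup.to_subgroup K)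
    have hd : 2 ∣ Nat.card K := hj ▸ dvd_pow_self 2 (by rintro rfl; exact hne (by rw [hj]; rfl))
    obtain ⟨y, hy⟩ := exists_prime_orderOf_dvd_card' (G := K) 2 hd
    rw [← Subgroup.orderOf_coe, orderOf_eq_prime_iff, pow_two] at hy
    exact S.C_le_of_mem hr (hom y y.2 hy.1) hy.2 y.2
  induction k with
  | zero =>
    intro K _ hom hr hx
    obtain ⟨x, hx, hx1⟩ := hx
    rw [pow_one, ← S.card_C]
    exact Subgroup.card_le_of_le (hCK K hom hr ⟨x, hx, fun e => hx1 (by rw [e, one_pow])⟩)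
  | succ k ih =>
    intro K hab hom hr hx
    obtain ⟨x, hx, hx1⟩ := hx
    have hC := hCK K hom hr ⟨x, hx, fun e => hx1 (by rw [e, one_pow])⟩
    let sq : K →* T := MonoidHom.mk' (fun x => (x : T) ^ 2) fun a b => by
      show ((a : T) * b) ^ 2 = _
      exact Commute.mul_pow (hab a a.2 b b.2) 2
    have h1 := sq.ker.card_mul_index
    have h2 : 2 ^ n ≤ Nat.card sq.ker := by
      rw [← S.card_C]
      exact Nat.card_le_card_of_injective (fun c : C => (⟨⟨c.1, hC c.2⟩, by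
        show (c : T) ^ 2 = 1
        rw [pow_two]; exact S.sq_C _ c.2⟩ : sq.ker))
        fun a b e => Subtype.ext (congrArg (fun y : sq.ker => ((y : K) : T)) e)
    have hsub : ∀ z ∈ sq.range, z ∈ K := by rintro _ ⟨x, rfl⟩; exact pow_mem x.2 2
    have h3 : (2 ^ n) ^ (k + 1) ≤ Nat.card sq.range := ih _ (fun a ha b hb => hab a (hsub a ha) b (hsub b hb))
      (fun z hz => hom z (hsub z hz)) (by
        rintro _ ⟨y, rfl⟩
        exact ⟨⟨ρ y, hr y y.2⟩, show (ρ y : T) ^ 2 = ρ ((y : T) ^ 2) from (map_pow ρ _ _).symm⟩)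
      ⟨x ^ 2, ⟨⟨x, hx⟩, rfl⟩, by rw [← pow_mul, ← pow_succ']; exact hx1⟩
    rw [Subgroup.index_ker] at h1
    rw [← h1, pow_succ']
    exact Nat.mul_le_mul h2 h3

end Setup

end Cfsg.Agent.SingerInvol
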