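import Cfsg.Agent.Lib.SingerInvol.Quotient

/-!
# The non-abelian case

* `Setup.elementary_quotient`: if the quotient by the center is abelian, the center is `C`, the order is
  `2 ^ (3 n)` and all squares lie in `C`.
* `Setup.not_class_three`: the quotient by the center cannot be non-abelian of this shape.
* `Setup.structure_center`: both combined, by induction on the order.
-/

set_option autoImplicit false
set_option linter.unusedSectionVars false

open scoped commutatorElement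

namespace Cfsg.Agent.SingerInvol

namespace Setup

variable {T : Type*} [Group T] [Finite T] {n : ℕ} {α ρ : MulAut T} {C : Subgroup T} (S : Setup n α ρ C)
variable {F : Type*} [Field F] [Fintype F] [CharP F 2] {ι : T → F} {ω : F}
include S

theorem elementary_quotient (hI : Coord ρ C ι ω) (hna : ¬ ∀ a b : T, a * b = b * a)
    (hQab : ∀ a b : T, ⁅a, b⁆ ∈ Subgroup.center T) :
    Subgroup.center T = C ∧ Nat.card T = (2 ^ n) ^ 3 ∧ ∀ x : T, x * x ∈ C := by
  classical
  haveI : Fact (Nat.Prime 2) := ⟨Nat.prime_two⟩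
  obtain ⟨αq, ρq, U, κ, SQ, hαq, hρq, hinv, hκ, hκρ, hκs, hκ0⟩ := S.exists_quotient hI hna
  have hPcomm := S.preimage_comm hI SQ hαq hρq hκ hκρ hκs hκ0
  set Z := Subgroup.center T with hZ
  let π := QuotientGroup.mk' Z
  set P := U.comap π with hP
  have hab : ∀ p q : T ⧸ Z, p * q = q * p := by
    intro p q
    obtain ⟨a, rfl⟩ := QuotientGroup.mk'_surjective Z p
    obtain ⟨b, rfl⟩ := QuotientGroup.mk'_surjective Z q
    rw [← commutatorElement_eq_one_iff_mul_comm, ← map_commutatorElement]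
    exact (QuotientGroup.eq_one_iff _).mpr (hQab a b)
  have homega : ∀ z ∈ Z, z * z = 1 → z ∈ C := fun z hz h => S.invol_of_inverted (hinv z hz) h
  have hπρ : ∀ x : T, ρq (π x) = π (ρ x) := hρq
  have hκ1 : κ 1 = 0 := (hκ0 1 (one_mem P)).2 (one_mem Z)
  have hκcong : ∀ a ∈ P, ∀ b ∈ P, π a = π b → κ a = κ b := by
    intro a ha b hb e
    have hz : a⁻¹ * b ∈ Z := QuotientGroup.eq.1 e
    have := hκ a ha (a⁻¹ * b) (mul_mem (inv_mem ha) hb)
    rw [mul_inv_cancel_left, (hκ0 _ (mul_mem (inv_mem ha) hb)).2 hz, add_zero] at this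
    exact this.symm
  -- the quotient has exponent two
  obtain ⟨hexp, hle⟩ : (∀ q : T ⧸ Z, q * q = 1) ∧ Nat.card (T ⧸ Z) ≤ 2 ^ n * 2 ^ n := by
    rcases SQ.abelian_cases hab with h | h
    · exact h
    exfalso
    letI : CommGroup (T ⧸ Z) := { (inferInstance : Group (T ⧸ Z)) with mul_comm := hab }
    have hex : ∃ j, ∀ q : T ⧸ Z, q ^ 2 ^ j = 1 := by
      obtain ⟨k, hk⟩ := IsPGroup.iff_card.mp SQ.pgroup
      exact ⟨k, fun q => hk ▸ pow_card_eq_one'⟩
    set j := Nat.find hex with hj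
    have hjexp : ∀ q : T ⧸ Z, q ^ 2 ^ j = 1 := Nat.find_spec hex
    have hj1 : 1 ≤ j := by
      by_contra h0
      obtain ⟨c, -, hc1⟩ := SQ.exists_ne_one_C
      have := hjexp c
      rw [show j = 0 by omega] at this
      exact hc1 (by simpa using this)
    obtain ⟨y, hy⟩ : ∃ y : T ⧸ Z, y ^ 2 ^ (j - 1) ≠ 1 := by
      by_contra h0
      push Not at h0
      exact Nat.find_min hex (show j - 1 < j by omega) h0
    set N := 2 ^ (j - 1) with hN
    have hpowP : ∀ x : T, x ^ N ∈ P := fun x => by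
      show π (x ^ N) ∈ U
      rw [map_pow]
      exact h _ (by rw [hN, ← pow_add, ← two_mul, ← pow_succ', show j - 1 + 1 = j by omega]; exact hjexp _)
    let g : T → F := fun x => κ (x ^ N)
    have hg : ∀ a ∈ (⊤ : Subgroup T), ∀ b ∈ (⊤ : Subgroup T), g (a * b) = g a + g b := fun a _ b _ => by
      show κ _ = κ _ + κ _
      rw [← hκ _ (hpowP a) _ (hpowP b)]
      refine hκcong _ (hpowP _) _ (mul_mem (hpowP a) (hpowP b)) ?_
      rw [map_pow, map_mul, map_mul, map_pow, map_pow, mul_pow]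
    have hgρ : ∀ a ∈ (⊤ : Subgroup T), g (ρ a) = ω * g a := fun a _ => by
      show κ (ρ a ^ N) = _
      rw [← map_pow]; exact hκρ _ (hpowP a)
    let pw : (T ⧸ Z) →* (T ⧸ Z) := powMonoidHom N
    have hrange : pw.range = U := by
      have hle' : pw.range ≤ U := by
        rintro _ ⟨q, rfl⟩
        obtain ⟨x, rfl⟩ := QuotientGroup.mk'_surjective Z q
        show π x ^ N ∈ U
        rw [← map_pow]; exact hpowP x
      refine (SQ.eq_C_or_bot hle' ?_).resolve_left fun e => hy ?_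
      · rintro _ ⟨q, rfl⟩
        exact ⟨ρq q, show ρq q ^ N = ρq (q ^ N) from (map_pow ρq q N).symm⟩
      · have : pw y ∈ pw.range := ⟨y, rfl⟩
        rw [e, Subgroup.mem_bot] at this
        exact this
    have hgs : ∀ v : F, ∃ a ∈ (⊤ : Subgroup T), g a = v := by
      intro v
      obtain ⟨a, ha, rfl⟩ := hκs v
      obtain ⟨q, hq⟩ : π a ∈ pw.range := hrange ▸ ha
      obtain ⟨x, rfl⟩ := QuotientGroup.mk'_surjective Z q
      exact ⟨x, Subgroup.mem_top x, hκcong _ (hpowP x) _ ha (by rw [map_pow]; exact hq)⟩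
    have hroot : ∀ x : T, g x = 0 → ∃ w : T, ∃ z ∈ Z, x = w * w * z := by
      intro x hx
      let sq : (T ⧸ Z) →* (T ⧸ Z) := powMonoidHom 2
      have hle' : sq.range ≤ pw.ker := by
        rintro _ ⟨q, rfl⟩
        show (q ^ 2) ^ N = 1
        rw [← pow_mul, hN, ← pow_succ', show j - 1 + 1 = j by omega]; exact hjexp q
      have h1 := sq.ker.card_mul_index
      have h2 := pw.ker.card_mul_index
      rw [Subgroup.index_ker] at h1 h2
      rw [hrange, SQ.card_C] at h2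
      have h3 : Nat.card sq.ker ≤ 2 ^ n := SQ.card_C ▸ Nat.card_le_card_of_injective
        (fun q => (⟨q.1, h _ (by rw [← pow_two]; exact q.2)⟩ : U))
        fun a b e => Subtype.ext (congrArg Subtype.val e :)
      have heq : sq.range = pw.ker := Subgroup.eq_of_le_of_card_ge hle'
        (Nat.le_of_mul_le_mul_left (by
          rw [mul_comm (2 ^ n) (Nat.card pw.ker), h2, ← h1]
          exact Nat.mul_le_mul_right _ h3) (Nat.two_pow_pos n))
      have hm : π x ∈ pw.ker := by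
        show π x ^ N = 1
        rw [← map_pow]
        exact (QuotientGroup.eq_one_iff _).2 ((hκ0 _ (hpowP x)).1 hx)
      rw [← heq] at hm
      obtain ⟨q, hq⟩ := hm
      obtain ⟨w, rfl⟩ := QuotientGroup.mk'_surjective Z q
      refine ⟨w, (w * w)⁻¹ * x, QuotientGroup.eq.1 ?_, (mul_inv_cancel_left _ _).symm⟩
      rw [QuotientGroup.mk_mul]
      exact (pow_two (π w)).symm.trans hq
    -- commutators have ever smaller exponents
    have hdesc : ∀ i : ℕ, (∀ a b : T, ⁅a, b⁆ ^ 2 ^ (i + 1) = 1) → ∀ a b : T, ⁅a, b⁆ ^ 2 ^ i = 1 := by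
      intro i hi
      have hDC : ∀ a b : T, ⁅a, b⁆ ^ 2 ^ i ∈ C := fun a b => homega _ (pow_mem (hQab a b) _) (by
        rw [← pow_add, ← two_mul, ← pow_succ']; exact hi a b)
      have hl : ∀ a a' b : T, ⁅a * a', b⁆ ^ 2 ^ i = ⁅a, b⁆ ^ 2 ^ i * ⁅a', b⁆ ^ 2 ^ i := fun a a' b => by
        rw [comm_mul_left_of_central (hQab a' b)]
        exact Commute.mul_pow (Subgroup.mem_center_iff.1 (hQab a' b) _) _
      have hr : ∀ a b b' : T, ⁅a, b * b'⁆ ^ 2 ^ i = ⁅a, b⁆ ^ 2 ^ i * ⁅a, b'⁆ ^ 2 ^ i := fun a b b' => by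
        rw [comm_mul_right_of_central (hQab a b')]
        exact Commute.mul_pow (Subgroup.mem_center_iff.1 (hQab a b') _) _
      have hD := pairing_self (r := ⇑ρ) (A := ⊤) (fun _ _ => Subgroup.mem_top _) hg hgρ hgs hI.gen
        (fun a b => ι (⁅a, b⁆ ^ 2 ^ i))
        (fun a _ a' _ b _ => by rw [hl]; exact hI.mul _ (hDC a b) _ (hDC a' b))
        (fun a _ b _ b' _ => by rw [hr]; exact hI.mul _ (hDC a b) _ (hDC a b'))
        (fun a _ b _ => by
          show ι (⁅ρ a, ρ b⁆ ^ _) = ω * ι _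
          rw [← map_commutatorElement, ← map_pow, hI.equiv _ (hDC a b)])
        (fun a _ => by show ι (⁅a, a⁆ ^ _) = 0; rw [commutatorElement_self, one_pow, hI.map_one])
        (fun a _ ha b _ => by
          obtain ⟨w, z, hz, rfl⟩ := hroot a ha
          constructor
          · show ι (⁅w * w * z, b⁆ ^ _) = 0
            rw [hl, hl, comm_left_eq_one hz, one_pow, mul_one, ← pow_add, ← two_mul, ← pow_succ', hi,
              hI.map_one]
          · show ι (⁅b, w * w * z⁆ ^ _) = 0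
            rw [hr, hr, comm_right_eq_one hz, one_pow, mul_one, ← pow_add, ← two_mul, ← pow_succ', hi,
              hI.map_one])
      exact fun a b => hI.inj _ (hDC a b) (hD a (Subgroup.mem_top a) b (Subgroup.mem_top b))
    have hall : ∀ i : ℕ, (∀ a b : T, ⁅a, b⁆ ^ 2 ^ i = 1) → ∀ a b : T, a * b = b * a := by
      intro i
      induction i with
      | zero =>
        intro h0 a b
        refine commutatorElement_eq_one_iff_mul_comm.1 ?_
        simpa using h0 a b
      | succ i ih => exact fun h0 => ih (hdesc i h0)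
    obtain ⟨k, hk⟩ := IsPGroup.iff_card.mp S.pgroup
    exact hna (hall k fun a b => hk ▸ pow_card_eq_one')
  letI : CommGroup (T ⧸ Z) := { (inferInstance : Group (T ⧸ Z)) with mul_comm := hab }
  -- displacements fill `U`
  let δ : (T ⧸ Z) →* (T ⧸ Z) := (MonoidHom.id _)⁻¹ * (αq : T ⧸ Z →* T ⧸ Z)
  have hδle : δ.range ≤ U := by
    rintro _ ⟨p, rfl⟩
    refine SQ.invol_of_inverted ?_ (hexp _)
    show αq (p⁻¹ * αq p) = (p⁻¹ * αq p)⁻¹
    rw [map_mul, map_inv, SQ.sq_α, mul_inv_rev, inv_inv, mul_comm]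
  have hδtop : δ.range = U := by
    refine (SQ.eq_C_or_bot hδle ?_).resolve_left fun e => hna ?_
    · rintro _ ⟨p, rfl⟩
      exact ⟨ρq p, (SQ.ρ_delta p).symm⟩
    · intro a b
      have hall : ∀ x : T, x ∈ P := fun x => by
        have : δ (π x) ∈ δ.range := ⟨_, rfl⟩
        rw [e, Subgroup.mem_bot] at this
        exact (SQ.fix_α _).1 (inv_mul_eq_one.1 this).symm
      exact hPcomm a (hall a) b (hall b)
  have hQcard : Nat.card (T ⧸ Z) = 2 ^ n * 2 ^ n := by
    have h1 := δ.ker.card_mul_index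
    have h2 : δ.ker = U := by
      ext p
      exact ⟨fun hp => (SQ.fix_α p).1 (inv_mul_eq_one.1 hp).symm,
        fun hp => inv_mul_eq_one.2 ((SQ.fix_α p).2 hp).symm⟩
    rw [Subgroup.index_ker, hδtop, h2, SQ.card_C] at h1
    omega
  have hsqZ : ∀ x : T, x * x ∈ Z := fun x => (QuotientGroup.eq_one_iff _).1 (hexp (π x))
  have hc2 : ∀ a b : T, ⁅a, b⁆ * ⁅a, b⁆ = 1 := fun a b => by
    rw [← comm_mul_left_of_central (hQab a b), comm_left_eq_one (hsqZ a)]
  have hZC : Z = C := by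
    obtain ⟨k, hk1, hkexp, hkne⟩ := S.exists_center_exp
    by_contra hne
    have hk2 : 2 ≤ k := by
      by_contra h
      refine hne (le_antisymm (fun z hz => homega z hz ?_) S.central)
      have := hkexp z hz
      rw [show k = 1 by omega, pow_one, pow_two] at this
      exact this
    obtain ⟨m, hm⟩ : ∃ m, 2 ^ (k - 1) = 2 * m :=
      ⟨2 ^ (k - 2), by rw [← pow_succ', show k - 2 + 1 = k - 1 by omega]⟩
    let s : T →* T := MonoidHom.mk' (fun x => (x * x) ^ 2 ^ (k - 1)) fun a b => by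
      have e1 : Commute (a * a) (b * b) := (Subgroup.mem_center_iff.1 (hsqZ b) (a * a))
      have e2 : Commute ⁅b, a⁆ (a * a * (b * b)) :=
        (Subgroup.mem_center_iff.1 (hQab b a) _).symm
      have e3 : a * b * (a * b) = ⁅b, a⁆ * (a * a * (b * b)) := by
        calc a * b * (a * b) = a * ⁅b, a⁆ * (a * b * b) := by simp only [commutatorElement_def]; group
          _ = _ := by rw [Subgroup.mem_center_iff.1 (hQab b a) a]; simp only [mul_assoc]
      rw [e3, e2.mul_pow, e1.mul_pow, hm, pow_mul ⁅b, a⁆, pow_two, hc2, one_pow, one_mul]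
    have hs : ∀ x, s x = (x * x) ^ 2 ^ (k - 1) := fun x => rfl
    have hsC : ∀ x, s x ∈ C := fun x => homega _ (pow_mem (hsqZ x) _) (by
      rw [hs, ← pow_add, ← two_mul, ← pow_succ', show k - 1 + 1 = k by omega, hkexp _ (hsqZ x)])
    have hsP : ∀ x ∈ P, x ^ 2 ^ k = 1 := by
      intro x hx
      obtain ⟨p, hp⟩ : π x ∈ δ.range := hδtop ▸ hx
      obtain ⟨p, rfl⟩ := QuotientGroup.mk'_surjective Z p
      have hz : (p⁻¹ * α p)⁻¹ * x ∈ Z := QuotientGroup.eq.1 (by
        rw [QuotientGroup.mk_mul, QuotientGroup.mk_inv, ← hαq]; exact hp)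
      have hs1 : s (p⁻¹ * α p) = 1 := by
        rw [map_mul, map_inv, show s (α p) = α (s p) by rw [hs, hs, map_pow, map_mul],
          (S.fix_α _).2 (hsC p), inv_mul_cancel]
      have hs2 : s ((p⁻¹ * α p)⁻¹ * x) = 1 := by
        rw [hs, ← pow_two, ← pow_mul, ← pow_succ', show k - 1 + 1 = k by omega, hkexp _ hz]
      rw [map_mul, map_inv, hs1, inv_one, one_mul, hs, ← pow_two, ← pow_mul, ← pow_succ',
        show k - 1 + 1 = k by omega] at hs2
      exact hs2
    have hZP : Z ≤ P := fun z hz => by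
      show π z ∈ U
      rw [show π z = 1 from (QuotientGroup.eq_one_iff z).2 hz]; exact one_mem U
    have hPom : ∀ x ∈ P, x * x = 1 → x ∈ C := by
      intro x hx h2
      have hd : x⁻¹ * α x ∈ Z := QuotientGroup.eq.1 (by rw [← hαq]; exact ((SQ.fix_α _).2 hx).symm)
      refine homega x ?_ h2
      -- the displacement is an involution, hence a square in the center
      have hdd : (x⁻¹ * α x) * (x⁻¹ * α x) = 1 := by
        have e1 := hPcomm x hx (α x) (by
          show π (α x) ∈ U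
          rw [show π (α x) = αq (π x) from (hαq x).symm, (SQ.fix_α _).2 hx]; exact hx)
        calc x⁻¹ * α x * (x⁻¹ * α x) = x⁻¹ * x⁻¹ * (α x * α x) := by
              rw [show x⁻¹ * α x * (x⁻¹ * α x) = x⁻¹ * (α x * x⁻¹) * α x by group,
                show α x * x⁻¹ = x⁻¹ * α x by rw [eq_inv_mul_iff_mul_eq, ← mul_assoc, e1, mul_inv_cancel_right]]
              group
          _ = 1 := by rw [← map_mul, h2, map_one, mul_one, ← mul_inv_rev, h2, inv_one]
      obtain ⟨z, hzZ, hze⟩ : ∃ z ∈ Z, z ^ 2 ^ (k - 1) = x⁻¹ * α x := by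
        obtain ⟨z₁, hz₁, hz₁'⟩ := hkne
        let pwZ : Z →* T := MonoidHom.mk' (fun z => (z : T) ^ 2 ^ (k - 1)) fun a b =>
          Commute.mul_pow (Subgroup.mem_center_iff.1 b.2 (a : T)) _
        have hle : C ≤ pwZ.range := by
          refine S.C_le_of_mem (a := z₁ ^ 2 ^ (k - 1)) ?_ (homega _ (pow_mem hz₁ _) (by
            rw [← pow_add, ← two_mul, ← pow_succ', show k - 1 + 1 = k by omega, hkexp _ hz₁])) hz₁'
            ⟨⟨z₁, hz₁⟩, rfl⟩
          rintro _ ⟨a, rfl⟩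
          exact ⟨⟨ρ a, S.aut_center ρ a.2⟩, (map_pow ρ (a : T) _).symm⟩
        obtain ⟨z, hz⟩ := hle (homega _ hd hdd)
        exact ⟨z, z.2, hz⟩
      -- so `x` differs from a central element by an element of `C`
      obtain ⟨i, hi⟩ : ∃ i, 2 ^ (k - 1) = 2 * i := ⟨m, hm⟩
      have hw : (z ^ i)⁻¹ ∈ Z := inv_mem (pow_mem hzZ i)
      have hfix : α (x * z ^ i) = x * z ^ i := by
        have hαx : α x = x * (x⁻¹ * α x) := (mul_inv_cancel_left _ _).symm
        rw [map_mul, map_pow, hinv z hzZ, inv_pow, hαx, ← hze, hi, two_mul, pow_add]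
        group
      have hC := S.central ((S.fix_α _).1 hfix)
      have := mul_mem hC hw
      rwa [mul_inv_cancel_right] at this
    have hPle := S.card_le_pow k P hPcomm hPom hsP
    have hZge := S.pow_le_card (k - 1) Z (fun a _ b hb => Subgroup.mem_center_iff.1 hb a) homega
      (fun z hz => S.aut_center ρ hz) hkne
    rw [show k - 1 + 1 = k by omega] at hZge
    have hPcard : Nat.card P = 2 ^ n * Nat.card Z := by
      have h1 := P.card_mul_index
      rw [hP, Subgroup.index_comap_of_surjective _ (QuotientGroup.mk'_surjective Z),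
        Z.card_eq_card_quotient_mul_card_subgroup, ← U.card_mul_index, mul_right_comm, SQ.card_C] at h1
      exact Nat.eq_of_mul_eq_mul_right (Nat.pos_of_ne_zero Subgroup.index_ne_zero_of_finite) h1
    rw [hPcard] at hPle
    have h4 := S.four_le
    have hpos : 0 < Nat.card Z := Nat.card_pos
    nlinarith
  refine ⟨hZC, ?_, fun x => hZC ▸ hsqZ x⟩
  rw [Z.card_eq_card_quotient_mul_card_subgroup, hQcard, hZC, S.card_C]
  ring

theorem not_class_three (hI : Coord ρ C ι ω) (hna : ¬ ∀ a b : T, a * b = b * a)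
    {αq ρq : MulAut (T ⧸ Subgroup.center T)} {U : Subgroup (T ⧸ Subgroup.center T)} {κ : T → F}
    (SQ : Setup n αq ρq U)
    (hαq : ∀ x : T, αq (x : T ⧸ Subgroup.center T) = ((α x : T) : T ⧸ Subgroup.center T))
    (hρq : ∀ x : T, ρq (x : T ⧸ Subgroup.center T) = ((ρ x : T) : T ⧸ Subgroup.center T))
    (hκ : ∀ a ∈ U.comap (QuotientGroup.mk' _), ∀ b ∈ U.comap (QuotientGroup.mk' _), κ (a * b) = κ a + κ b)
    (hκρ : ∀ a ∈ U.comap (QuotientGroup.mk' _), κ (ρ a) = ω * κ a)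
    (hκs : ∀ x : F, ∃ a ∈ U.comap (QuotientGroup.mk' _), κ a = x)
    (hκ0 : ∀ a ∈ U.comap (QuotientGroup.mk' _), κ a = 0 ↔ a ∈ Subgroup.center T)
    (hcen : Subgroup.center (T ⧸ Subgroup.center T) = U)
    (hsq : ∀ q : T ⧸ Subgroup.center T, q * q ∈ U)
    (hQna : ¬ ∀ a b : T ⧸ Subgroup.center T, a * b = b * a) : False := by
  classical
  have hPcomm := S.preimage_comm hI SQ hαq hρq hκ hκρ hκs hκ0
  set Z := Subgroup.center T with hZ
  let π := QuotientGroup.mk' Z
  set P := U.comap π with hP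
  have hπα : ∀ x : T, αq (π x) = π (α x) := hαq
  have hπρ : ∀ x : T, ρq (π x) = π (ρ x) := hρq
  have hκ1 : κ 1 = 0 := (hκ0 1 (one_mem P)).2 (one_mem Z)
  have two : ∀ x : F, x + x = 0 := CharTwo.add_self_eq_zero
  have hκinv : ∀ a ∈ P, κ a⁻¹ = κ a := fun a ha => by
    have h := hκ a ha a⁻¹ (inv_mem ha)
    rw [mul_inv_cancel, hκ1] at h
    exact (CharTwo.add_eq_zero.1 h.symm).symm
  have hκcong : ∀ a ∈ P, ∀ b ∈ P, π a = π b → κ a = κ b := by
    intro a ha b hb e
    have hz : a⁻¹ * b ∈ Z := QuotientGroup.eq.1 e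
    have := hκ a ha (a⁻¹ * b) (mul_mem (inv_mem ha) hb)
    rw [mul_inv_cancel_left, (hκ0 _ (mul_mem (inv_mem ha) hb)).2 hz, add_zero] at this
    exact this.symm
  -- coordinate on the fixed points of the quotient
  have hout : ∀ q : T ⧸ Z, π q.out = q := fun q => QuotientGroup.out_eq' q
  have hoP : ∀ q ∈ U, q.out ∈ P := fun q hq => by
    show π q.out ∈ U
    rw [hout]; exact hq
  have hIQ : Coord ρq U (fun q => κ q.out) ω := by
    refine ⟨fun a ha b hb => ?_, fun a ha h => ?_, fun v => ?_, fun a ha => ?_, hI.gen, hI.ne_one⟩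
    · show κ _ = κ _ + κ _
      rw [← hκ _ (hoP a ha) _ (hoP b hb)]
      exact hκcong _ (hoP _ (mul_mem ha hb)) _ (mul_mem (hoP a ha) (hoP b hb))
        (by rw [map_mul, hout, hout, hout])
    · have := (hκ0 _ (hoP a ha)).1 h
      rw [← hout a]
      exact (QuotientGroup.eq_one_iff _).2 this
    · obtain ⟨a, ha, rfl⟩ := hκs v
      exact ⟨π a, ha, hκcong _ (hoP _ ha) _ ha (hout _)⟩
    · show κ (ρq a).out = ω * κ a.out
      rw [← hκρ _ (hoP a ha)]
      exact hκcong _ (hoP _ (SQ.r_mem_C ha)) _ (by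
        show π (ρ a.out) ∈ U
        rw [← hπρ, hout]; exact SQ.r_mem_C ha) (by rw [hout, ← hπρ, hout])
  obtain ⟨α₂, ρ₂, W, μ, SV, hα₂, hρ₂, hinv₂, hμ, hμρ, hμs, hμ0⟩ := SQ.exists_quotient hIQ hQna
  have hP1comm := SQ.preimage_comm hIQ SV hα₂ hρ₂ hμ hμρ hμs hμ0
  set P1 := W.comap (QuotientGroup.mk' (Subgroup.center (T ⧸ Z))) with hP1
  let π2 := QuotientGroup.mk' (Subgroup.center (T ⧸ Z))
  have hVexp : ∀ v : (T ⧸ Z) ⧸ Subgroup.center (T ⧸ Z), v * v = 1 := by
    intro v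
    obtain ⟨q, rfl⟩ := QuotientGroup.mk'_surjective _ v
    rw [← map_mul, QuotientGroup.mk'_apply, QuotientGroup.eq_one_iff, hcen]
    exact hsq q
  have hVab : ∀ u v : (T ⧸ Z) ⧸ Subgroup.center (T ⧸ Z), u * v = v * u := fun u v => by
    calc u * v = (u * v)⁻¹ := (inv_eq_of_mul_eq_one_right (hVexp _)).symm
      _ = v * u := by
        rw [mul_inv_rev, inv_eq_of_mul_eq_one_right (hVexp u), inv_eq_of_mul_eq_one_right (hVexp v)]
  have hP1fix : ∀ q, q ∈ P1 ↔ q⁻¹ * αq q ∈ Subgroup.center (T ⧸ Z) := fun q => by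
    rw [hP1, Subgroup.mem_comap, ← SV.fix_α, QuotientGroup.mk'_apply, hα₂, eq_comm, QuotientGroup.eq]
  let d : T ⧸ Z → T ⧸ Z := fun q => q⁻¹ * αq q
  have hdP1 : ∀ q, d q ∈ P1 := fun q => by
    show π2 (d q) ∈ W
    refine SV.invol_of_inverted ?_ (hVexp _)
    show α₂ (π2 (q⁻¹ * αq q)) = (π2 (q⁻¹ * αq q))⁻¹
    rw [QuotientGroup.mk'_apply, hα₂, ← QuotientGroup.mk_inv]
    congr 1
    rw [map_mul, map_inv, SQ.sq_α, mul_inv_rev, inv_inv]
  have hμcong : ∀ a ∈ P1, ∀ b ∈ P1, π2 a = π2 b → μ a = μ b := by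
    intro a ha b hb e
    have hz : a⁻¹ * b ∈ Subgroup.center (T ⧸ Z) := QuotientGroup.eq.1 e
    have := hμ a ha (a⁻¹ * b) (mul_mem (inv_mem ha) hb)
    rw [mul_inv_cancel_left, (hμ0 _ (mul_mem (inv_mem ha) hb)).2 hz, add_zero] at this
    exact this.symm
  let γ : T → F := fun x => μ (d (π x))
  have hγ : ∀ a b : T, γ (a * b) = γ a + γ b := fun a b => by
    show μ _ = μ _ + μ _
    rw [← hμ _ (hdP1 _) _ (hdP1 _)]
    refine hμcong _ (hdP1 _) _ (mul_mem (hdP1 _) (hdP1 _)) ?_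
    simp only [d, map_mul, map_inv, mul_inv_rev]
    rw [hVab (π2 (π b))⁻¹ (π2 (π a))⁻¹, mul_assoc, ← mul_assoc (π2 (π b))⁻¹, hVab (π2 (π b))⁻¹, mul_assoc,
      ← mul_assoc]
  have hγρ : ∀ a : T, γ (ρ a) = ω * γ a := fun a => by
    show μ _ = ω * μ _
    rw [← hμρ _ (hdP1 _)]
    congr 1
    rw [← hπρ]
    exact (SQ.ρ_delta (π a)).symm
  set PT := P1.comap π with hPT
  have hγ0 : ∀ a : T, γ a = 0 ↔ a ∈ PT := fun a => by
    show μ (d (π a)) = 0 ↔ π a ∈ P1
    rw [hμ0 _ (hdP1 _), hP1fix]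
  have hP1sub : PT ≠ ⊤ := fun e => by
    refine hQna fun a b => ?_
    obtain ⟨a, rfl⟩ := QuotientGroup.mk'_surjective Z a
    obtain ⟨b, rfl⟩ := QuotientGroup.mk'_surjective Z b
    exact hP1comm _ (e ▸ Subgroup.mem_top a : a ∈ PT) _ (e ▸ Subgroup.mem_top b : b ∈ PT)
  let ν : T → F := fun y => μ (π y)
  have hγs : ∀ v : F, ∃ a ∈ (⊤ : Subgroup T), γ a = v := by
    obtain ⟨a₀, -, ha₀⟩ := SetLike.exists_of_lt (lt_of_le_of_ne (le_top : PT ≤ ⊤) hP1sub)
    intro v
    by_cases hv : v = 0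
    · refine ⟨1, one_mem _, ?_⟩
      rw [hv, hγ0]; exact one_mem PT
    obtain ⟨i, hi⟩ := hI.gen (v / γ a₀) (div_ne_zero hv fun e => ha₀ ((hγ0 _).1 e))
    refine ⟨(ρ ^ i) a₀, Subgroup.mem_top _, ?_⟩
    have hpow : ∀ i : ℕ, γ ((ρ ^ i) a₀) = ω ^ i * γ a₀ := by
      intro i
      induction i with
      | zero => simp
      | succ i ih => rw [pow_succ', MulAut.mul_apply, hγρ, ih]; ring
    rw [hpow, hi, div_mul_cancel₀ _ fun e => ha₀ ((hγ0 _).1 e)]
  have hν : ∀ a ∈ PT, ∀ b ∈ PT, ν (a * b) = ν a + ν b := fun a ha b hb => by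
    show μ (π (a * b)) = μ (π a) + μ (π b)
    rw [map_mul]; exact hμ _ ha _ hb
  have hνρ : ∀ a ∈ PT, ν (ρ a) = ω * ν a := fun a ha => by
    show μ (π (ρ a)) = ω * μ (π a)
    rw [← hπρ]; exact hμρ _ ha
  have hνs : ∀ v : F, ∃ a ∈ PT, ν a = v := fun v => by
    obtain ⟨q, hq, rfl⟩ := hμs v
    obtain ⟨a, rfl⟩ := QuotientGroup.mk'_surjective Z q
    exact ⟨a, hq, rfl⟩
  have hPTr : ∀ a ∈ PT, ρ a ∈ PT := fun a ha => by
    show π (ρ a) ∈ P1
    rw [← hπρ, hP1fix, ← SQ.ρ_delta]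
    exact SQ.aut_center ρq ((hP1fix _).1 ha)
  have hPρ : ∀ a ∈ P, ρ a ∈ P := fun a ha => by
    show π (ρ a) ∈ U
    rw [← hπρ]; exact SQ.r_mem_C ha
  -- the pairing of the preimage of `U` with the group
  have hux : ∀ u ∈ P, ∀ x : T, ⁅u, x⁆ ∈ Z := fun u hu x => by
    refine (QuotientGroup.eq_one_iff _).1 ?_
    show π ⁅u, x⁆ = 1
    rw [map_commutatorElement]
    refine comm_left_eq_one ?_ _
    rw [hcen]; exact hu
  have hxx : ∀ x : T, x * x ∈ P := fun x => by
    show π (x * x) ∈ U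
    rw [map_mul]; exact hsq _
  have huxC : ∀ u ∈ P, ∀ x : T, ⁅u, x⁆ ∈ C := fun u hu x => by
    refine S.invol_of_inverted ?_ ?_
    · obtain ⟨_, _, _, _, -, -, -, hinv, -⟩ := S.exists_quotient hI hna
      exact hinv _ (hux u hu x)
    · rw [← comm_mul_right_of_central (hux u hu x), commutatorElement_eq_one_iff_mul_comm]
      exact hPcomm u hu _ (hxx x)
  have hkillP1 : ∀ u ∈ P, ∀ y ∈ PT, ⁅u, y⁆ = 1 := by
    intro u hu y hy
    obtain ⟨x, -, hx⟩ := hγs (ν y)
    have hdx : ⁅u, x⁻¹ * α x⁆ = 1 := by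
      have hfix : ⁅u, α x⁆ = ⁅u, x⁆ := by
        have h1 : α ⁅u, x⁆ = ⁅u, x⁆ := (S.fix_α _).2 (huxC u hu x)
        rw [map_commutatorElement] at h1
        conv_rhs => rw [← h1]
        exact comm_congr (QuotientGroup.eq.1 ((hαq u).symm.trans ((SQ.fix_α _).2 hu)) )
          (by rw [inv_mul_cancel]; exact one_mem _)
      rw [comm_mul_right_of_central (hux u hu _), hfix]
      have h1 := comm_mul_right_of_central (a := u) (b := x⁻¹) (hux u hu x)
      rw [inv_mul_cancel, commutatorElement_one_right] at h1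
      exact h1.symm
    have hdy : x⁻¹ * α x ∈ PT := by
      show π (x⁻¹ * α x) ∈ P1
      rw [map_mul, map_inv, ← hπα]; exact hdP1 _
    have hz : (x⁻¹ * α x)⁻¹ * y ∈ P := by
      show π ((x⁻¹ * α x)⁻¹ * y) ∈ U
      rw [← hcen]
      have hm : (π (x⁻¹ * α x))⁻¹ * π y ∈ P1 := mul_mem (inv_mem hdy) hy
      rw [map_mul, map_inv, ← hμ0 _ hm]
      have h1 := hμ _ hdy _ hm
      rw [mul_inv_cancel_left] at h1
      have hx' : μ (π (x⁻¹ * α x)) = μ (π y) := by
        rw [map_mul, map_inv, ← hπα]; exact hx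
      linear_combination hx' - h1 + two (μ (π y)) - two (μ (π (x⁻¹ * α x)))
    rw [show y = x⁻¹ * α x * ((x⁻¹ * α x)⁻¹ * y) by rw [mul_inv_cancel_left],
      comm_mul_right_of_central (hux u hu _), hdx, one_mul]
    exact commutatorElement_eq_one_iff_mul_comm.2 (hPcomm u hu _ hz)
  obtain ⟨c, hc⟩ := pairing_sq (r := ⇑ρ) (A := P) (B := ⊤) hPρ (fun _ _ => Subgroup.mem_top _) hκ
    (fun a _ b _ => hγ a b) hκρ (fun a _ => hγρ a) hκs hγs hI.gen (fun u x => ι ⁅u, x⁆)
    (fun u hu u' hu' x _ => by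
      rw [comm_mul_left_of_central (hux u' hu' x)]
      exact hI.mul _ (huxC u hu x) _ (huxC u' hu' x))
    (fun u hu x _ x' _ => by
      rw [comm_mul_right_of_central (hux u hu x')]
      exact hI.mul _ (huxC u hu x) _ (huxC u hu x'))
    (fun u hu x _ => by
      show ι ⁅ρ u, ρ x⁆ = ω * ι ⁅u, x⁆
      rw [← map_commutatorElement, hI.equiv _ (huxC u hu x)])
    (fun u hu h x _ => by show ι ⁅u, x⁆ = 0; rw [comm_left_eq_one ((hκ0 u hu).1 h), hI.map_one])
    (fun x _ h u hu => by show ι ⁅u, x⁆ = 0; rw [hkillP1 u hu x ((hγ0 x).1 h), hI.map_one])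
  -- the commutator pairing in the quotient
  have hxyP : ∀ x y : T, ⁅x, y⁆ ∈ P := fun x y => by
    show π ⁅x, y⁆ ∈ U
    rw [map_commutatorElement, ← hcen, ← QuotientGroup.eq_one_iff, ← QuotientGroup.mk'_apply,
      map_commutatorElement]
    exact commutatorElement_eq_one_iff_mul_comm.2 (hVab _ _)
  have hxyc : ∀ x y : T, π ⁅x, y⁆ ∈ Subgroup.center (T ⧸ Z) := fun x y => by rw [hcen]; exact hxyP x y
  obtain ⟨b, hb⟩ := pairing_sq (r := ⇑ρ) (A := ⊤) (B := PT) (fun _ _ => Subgroup.mem_top _) hPTr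
    (fun a _ b _ => hγ a b) hν (fun a _ => hγρ a) hνρ hγs hνs hI.gen (fun x y => κ ⁅x, y⁆)
    (fun x _ x' _ y _ => by
      rw [← hκ _ (hxyP x y) _ (hxyP x' y)]
      refine hκcong _ (hxyP _ _) _ (mul_mem (hxyP x y) (hxyP x' y)) ?_
      rw [map_mul, map_commutatorElement, map_mul, comm_mul_left_of_central (by
        rw [← map_commutatorElement]; exact hxyc x' y), ← map_commutatorElement, ← map_commutatorElement])
    (fun x _ y _ y' _ => by
      rw [← hκ _ (hxyP x y) _ (hxyP x y')]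
      refine hκcong _ (hxyP _ _) _ (mul_mem (hxyP x y) (hxyP x y')) ?_
      rw [map_mul, map_commutatorElement, map_mul, comm_mul_right_of_central (by
        rw [← map_commutatorElement]; exact hxyc x y'), ← map_commutatorElement, ← map_commutatorElement])
    (fun x _ y _ => by
      show κ ⁅ρ x, ρ y⁆ = ω * κ ⁅x, y⁆
      rw [← map_commutatorElement, hκρ _ (hxyP x y)])
    (fun x _ h y hy => (hκ0 _ (hxyP x y)).2 ((QuotientGroup.eq_one_iff _).1 (by
      show π ⁅x, y⁆ = 1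
      rw [map_commutatorElement, commutatorElement_eq_one_iff_mul_comm]
      exact hP1comm _ ((hγ0 x).1 h) _ hy)))
    (fun y hy h x _ => (hκ0 _ (hxyP x y)).2 ((QuotientGroup.eq_one_iff _).1 (by
      show π ⁅x, y⁆ = 1
      rw [map_commutatorElement]
      exact comm_right_eq_one ((hμ0 _ hy).1 h) _)))
  -- the Jacobi identity
  have hjac : ∀ x z : T, ∀ y ∈ PT, ι ⁅⁅x, y⁆, z⁆ = ι ⁅⁅y, z⁆, x⁆ := by
    intro x z y hy
    have hp := hxyP x y
    have he := hxyP x z
    have hf := hxyP y z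
    have hye : ⁅y, ⁅x, z⁆⁆ = 1 := by rw [← commutatorElement_inv, hkillP1 _ he y hy, inv_one]
    have h1 : ⁅y, ⁅x, z⁆ * z⁆ = ⁅y, z⁆ := by
      have hc1 : ⁅x, z⁆ * ⁅y, z⁆ = ⁅y, z⁆ * ⁅x, z⁆ := hPcomm _ he _ hf
      calc ⁅y, ⁅x, z⁆ * z⁆ = ⁅y, ⁅x, z⁆⁆ * (⁅x, z⁆ * ⁅y, z⁆ * ⁅x, z⁆⁻¹) := by
            simp only [commutatorElement_def]; group
        _ = _ := by rw [hye, one_mul, hc1, mul_inv_cancel_right]
    have h2 : ⁅⁅x, y⁆, ⁅x, z⁆ * z⁆ = ⁅⁅x, y⁆, z⁆ := by
      rw [comm_mul_right_of_central (hux _ hp z),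
        commutatorElement_eq_one_iff_mul_comm.2 (hPcomm _ hp _ he), one_mul]
    have hconj : x * ⁅y, z⁆ * x⁻¹ = ⁅y, z⁆ * ⁅⁅x, y⁆, z⁆ := by
      have h3 : x * ⁅y, z⁆ * x⁻¹ = ⁅⁅x, y⁆ * y, ⁅x, z⁆ * z⁆ := by simp only [commutatorElement_def]; group
      rw [h3]
      calc ⁅⁅x, y⁆ * y, ⁅x, z⁆ * z⁆
          = ⁅x, y⁆ * ⁅y, ⁅x, z⁆ * z⁆ * ⁅x, y⁆⁻¹ * ⁅⁅x, y⁆, ⁅x, z⁆ * z⁆ := by
            simp only [commutatorElement_def]; group
        _ = _ := by rw [h1, h2, hPcomm _ hp _ hf, mul_inv_cancel_right]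
    have h4 : ⁅x, ⁅y, z⁆⁆ = ⁅⁅x, y⁆, z⁆ := by
      have hc1 := Subgroup.mem_center_iff.1 (hux _ hp z) ⁅y, z⁆
      calc ⁅x, ⁅y, z⁆⁆ = x * ⁅y, z⁆ * x⁻¹ * ⁅y, z⁆⁻¹ := commutatorElement_def _ _
        _ = ⁅y, z⁆ * ⁅⁅x, y⁆, z⁆ * ⁅y, z⁆⁻¹ := by rw [hconj]
        _ = _ := by rw [hc1, mul_inv_cancel_right]
    rw [← h4, ← commutatorElement_inv, inv_eq_of_mul_eq_one_right (S.sq_C _ (huxC _ hf x))]
  have hkey : ∀ x z : T, ∀ y ∈ PT,
      c * c * (b * (γ x * ν y)) * (γ z * γ z) = c * c * (b * (γ z * ν y)) * (γ x * γ x) := by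
    intro x z y hy
    have h1 := hc _ (hxyP x y) z (Subgroup.mem_top z)
    have h2 := hc _ (hxyP y z) x (Subgroup.mem_top x)
    have h3 : κ ⁅y, z⁆ = κ ⁅z, y⁆ := by rw [← commutatorElement_inv, hκinv _ (hxyP z y)]
    have h4 : c * (κ ⁅x, y⁆ * γ z) = c * (κ ⁅z, y⁆ * γ x) := by
      rw [← h3, ← h1, ← h2, hjac x z y hy]
    have hbx := hb x (Subgroup.mem_top x) y hy
    have hbz := hb z (Subgroup.mem_top z) y hy
    rw [← hbx, ← hbz]
    linear_combination (c * κ ⁅x, y⁆ * γ z + c * κ ⁅z, y⁆ * γ x) * h4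
  obtain ⟨x, -, hx⟩ := hγs 1
  obtain ⟨z, -, hz⟩ := hγs ω
  obtain ⟨y, hy, hy1⟩ := hνs 1
  have h := hkey x z y hy
  rw [hx, hz, hy1] at h
  have hω0 : ω ≠ 0 := by
    intro e
    refine hI.ne_one ?_
    obtain ⟨j, hj⟩ := hI.gen 1 one_ne_zero
    have hall : ∀ v : F, v = 0 ∨ v = 1 := fun v => by
      by_cases hv : v = 0
      · exact Or.inl hv
      · obtain ⟨i, rfl⟩ := hI.gen v hv
        rcases i with _ | i
        · exact Or.inr (pow_zero _)
        · exact absurd (by rw [e, pow_succ, mul_zero]) hv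
    exfalso
    have hc4 := SQ.four_le
    have hle : Nat.card U ≤ Fintype.card F := by
      rw [← Nat.card_eq_fintype_card]
      refine Nat.card_le_card_of_injective (fun q : U => κ q.1.out) fun p q hpq => ?_
      have hpq' : κ p.1.out = κ q.1.out := hpq
      apply Subtype.ext
      rw [← mul_inv_eq_one]
      refine hIQ.inj _ (mul_mem p.2 (inv_mem q.2)) ?_
      rw [hIQ.mul _ p.2 _ (inv_mem q.2), inv_eq_of_mul_eq_one_right (SQ.sq_C _ q.2), hpq', two]
    have hle2 : Fintype.card F ≤ 2 := by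
      rw [← Finset.card_univ]
      exact (Finset.card_le_card (fun a _ => by rcases hall a with ha | ha <;> simp [ha])).trans
        (Finset.card_le_two (a := (0 : F)) (b := 1))
    rw [SQ.card_C] at hle
    omega
  have h0 : c * c * b * (ω * (ω + 1)) = 0 := by
    linear_combination h + c * c * b * two ω
  have hω1 : ω + 1 ≠ 0 := fun e => hI.ne_one (CharTwo.add_eq_zero.1 e)
  rcases mul_eq_zero.1 h0 with h1 | h1
  · rcases mul_eq_zero.1 h1 with h2 | h2
    · -- `c = 0`: the preimage of `U` is central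
      have hc0 : c = 0 := mul_self_eq_zero.1 h2
      have hPZ : P ≤ Z := fun u hu => Subgroup.mem_center_iff.2 fun g => by
        have h3 := hc u hu g (Subgroup.mem_top g)
        rw [hc0, zero_mul] at h3
        exact (commutatorElement_eq_one_iff_mul_comm.1 (hI.inj _ (huxC u hu g) (mul_self_eq_zero.1 h3))).symm
      obtain ⟨q, hq, hq1⟩ := SQ.exists_ne_one_C
      obtain ⟨u, rfl⟩ := QuotientGroup.mk'_surjective Z q
      exact hq1 ((QuotientGroup.eq_one_iff u).2 (hPZ hq))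
    · -- `b = 0`: the preimage of `W` is central in the quotient
      obtain ⟨v, hv, hv1⟩ := SV.exists_ne_one_C
      obtain ⟨q, rfl⟩ := QuotientGroup.mk'_surjective _ v
      obtain ⟨u, rfl⟩ := QuotientGroup.mk'_surjective Z q
      refine hv1 ((QuotientGroup.eq_one_iff _).2 (Subgroup.mem_center_iff.2 fun g => ?_))
      obtain ⟨g, rfl⟩ := QuotientGroup.mk'_surjective Z g
      have h3 := hb g (Subgroup.mem_top g) u hv
      rw [h2, zero_mul] at h3
      rw [← commutatorElement_eq_one_iff_mul_comm, ← map_commutatorElement]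
      exact (QuotientGroup.eq_one_iff _).2 ((hκ0 _ (hxyP g u)).1 (mul_self_eq_zero.1 h3))
  · rcases mul_eq_zero.1 h1 with h2 | h2
    · exact hω0 h2
    · exact hω1 h2

end Setup

universe u

/-- A non-abelian group with such automorphisms has center `C`, order `2 ^ (3 n)` and squares in `C`. -/
theorem Setup.structure_center {n : ℕ} : ∀ (N : ℕ) (T : Type u) [Group T] [Finite T] (α ρ : MulAut T)
    (C : Subgroup T), Setup n α ρ C → Nat.card T ≤ N → (¬ ∀ a b : T, a * b = b * a) →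
    Subgroup.center T = C ∧ Nat.card T = (2 ^ n) ^ 3 ∧ ∀ x : T, x * x ∈ C := by
  intro N
  induction N with
  | zero =>
    intro T _ _ α ρ C _ hle _
    have : 0 < Nat.card T := Nat.card_pos
    omega
  | succ N ih =>
    intro T _ _ α ρ C S hle hna
    obtain ⟨F, _, _, _, ι, ω, hI, -⟩ := S.exists_coord
    by_cases hQab : ∀ a b : T, ⁅a, b⁆ ∈ Subgroup.center T
    · exact S.elementary_quotient hI hna hQab
    exfalso
    obtain ⟨αq, ρq, U, κ, SQ, hαq, hρq, -, hκ, hκρ, hκs, hκ0⟩ := S.exists_quotient hI hna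
    have hQna : ¬ ∀ a b : T ⧸ Subgroup.center T, a * b = b * a := fun h => hQab fun a b => by
      rw [← QuotientGroup.eq_one_iff, ← QuotientGroup.mk'_apply, map_commutatorElement]
      exact commutatorElement_eq_one_iff_mul_comm.2 (h _ _)
    have hlt : Nat.card (T ⧸ Subgroup.center T) < Nat.card T := by
      have h1 := (Subgroup.center T).card_eq_card_quotient_mul_card_subgroup
      have h2 : 2 ^ n ≤ Nat.card (Subgroup.center T) := S.card_C ▸ Subgroup.card_le_of_le S.central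
      have h4 := S.four_le
      have h3 : 0 < Nat.card (T ⧸ Subgroup.center T) := Nat.card_pos
      nlinarith
    obtain ⟨hcen, -, hsq⟩ := ih _ αq ρq U SQ (by omega) hQna
    exact S.not_class_three hI hna SQ hαq hρq hκ hκρ hκs hκ0 hcen hsq hQna

end Cfsg.Agent.SingerInvol
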